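import Cfsg.Agent.S2807
import Cfsg.Agent.Lib.Conjugacy.TransferSections
import Cfsg.Agent.Lib.Transfer.HallWielandt

/-!
Without a wreath quotient, an element of a Sylow subgroup of a perfect group whose class in an
abelian quotient is fixed by the normalizer has trivial class.
-/

set_option autoImplicit false

namespace CfsgLib.IsolatedRankTwo

open scoped commutatorElement

/-- `P` has no quotient `Z_p ≀ Z_p`. -/
def NoWreath (p : ℕ) (P : Type*) [Group P] : Prop :=
  ¬ ∃ (W : Sylow p (Equiv.Perm (Fin (p ^ 2))))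
    (f : P →* ↥(W : Subgroup (Equiv.Perm (Fin (p ^ 2))))), Function.Surjective f

variable {p : ℕ} [hp : Fact p.Prime]

/-- An abelian quotient class fixed by the normalizer dies in a perfect group. -/
theorem eq_one_of_fixed {L : Type*} [Group L] [Finite L] (hL : commutator L = ⊤) (P : Sylow p L)
    (hno : NoWreath p ↥(P : Subgroup L)) {A : Type*} [CommGroup A] (φ : ↥(P : Subgroup L) →* A)
    (a : ↥(P : Subgroup L))
    (hfix : ∀ n ∈ Subgroup.normalizer ((P : Subgroup L) : Set L),
      ∀ b : ↥(P : Subgroup L), (b : L) = n * a * n⁻¹ → φ b = φ a) : φ a = 1 := by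
  classical
  set N := Subgroup.normalizer ((P : Subgroup L) : Set L) with hN
  have hfoc : (P : Subgroup L) ⊓ commutator L = (P : Subgroup L) ⊓ ⁅N, N⁆ :=
    by_contra fun h => hno (Cfsg.Agent.S2807.result P h)
  have haN : (a : L) ∈ ⁅N, N⁆ := by
    have h1 : (a : L) ∈ (P : Subgroup L) ⊓ commutator L := ⟨a.2, hL ▸ Subgroup.mem_top _⟩
    exact (hfoc ▸ h1).2
  have hPN : (P : Subgroup L) ≤ N := Subgroup.le_normalizer
  let H : Subgroup N := (P : Subgroup L).subgroupOf N
  haveI hHn : H.Normal := Subgroup.normal_in_normalizer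
  let aN : N := ⟨a, hPN a.2⟩
  have haH : aN ∈ H := a.2
  let ψ : H →* A := φ.comp (Subgroup.subgroupOfEquivOfLe hPN).toMonoidHom
  letI : Fintype (N ⧸ H) := Fintype.ofFinite _
  have hfixq : ∀ q : N ⧸ H, aN⁻¹ • q = q := by
    intro q
    induction q using QuotientGroup.induction_on with
    | H g =>
      refine QuotientGroup.eq.2 ?_
      simpa [mul_assoc] using hHn.conj_mem' _ haH g
  have hmem : ∀ g : N, g⁻¹ * aN * g ∈ H := fun g => hHn.conj_mem' _ haH g
  have htr : MonoidHom.transfer ψ aN = φ a ^ H.index := by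
    rw [CfsgLib.Conjugacy.transfer_of_fixed ψ aN hfixq hmem, Subgroup.index_eq_card,
      Nat.card_eq_fintype_card, ← Finset.card_univ, ← Finset.prod_const]
    refine Finset.prod_congr rfl fun q _ => ?_
    refine hfix ((q.out : N) : L)⁻¹ (inv_mem q.out.2) _ ?_
    simp [aN, ψ, Subgroup.subgroupOfEquivOfLe]
  have hcomm : aN ∈ commutator N := by
    have h1 : (aN : L) ∈ (commutator N).map N.subtype := by
      rwa [Subgroup.map_subtype_commutator]
    exact (Subgroup.mem_map_iff_mem N.subtype_injective).1 h1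
  have h1 : φ a ^ H.index = 1 :=
    htr ▸ MonoidHom.mem_ker.1 (Abelianization.commutator_subset_ker _ hcomm)
  obtain ⟨k, hk⟩ := P.2 a
  have h2 : φ a ^ p ^ k = 1 := by rw [← map_pow, hk, map_one]
  have hcop : Nat.Coprime H.index (p ^ k) := by
    refine Nat.Coprime.pow_right _ (hp.out.coprime_iff_not_dvd.2 fun hd => P.not_dvd_index ?_).symm
    exact hd.trans ⟨_, (Subgroup.relIndex_mul_index hPN).symm⟩
  have h3 := pow_gcd_eq_one.2 ⟨h1, h2⟩
  rwa [hcop, pow_one] at h3

/-- A quotient `Z_p ≀ Z_p` has class at least `p`. -/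
theorem noWreath_of_map {P : Type*} [Group P]
    (h : ∀ (W : Sylow p (Equiv.Perm (Fin (p ^ 2))))
      (f : P →* ↥(W : Subgroup (Equiv.Perm (Fin (p ^ 2))))), Function.Surjective f →
      ((⊤ : Subgroup P).lowerCentralSeries (p - 1)).map f ≠ ⊥ → False) : NoWreath p P := by
  rintro ⟨W, f, hf⟩
  refine h W f hf fun he => Transfer.wreath_lowerCentralSeries_ne_bot W ?_
  rw [Transfer.map_lowerCentralSeries, Subgroup.map_top_of_surjective f hf] at he
  have h1 := congrArg (Subgroup.map (W : Subgroup (Equiv.Perm (Fin (p ^ 2)))).subtype) he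
  rwa [Transfer.map_lowerCentralSeries, Subgroup.map_bot, ← MonoidHom.range_eq_map,
    Subgroup.range_subtype] at h1

/-- The base of `Z_p ≀ Z_p`. -/
theorem exists_elementary_base (W : Sylow p (Equiv.Perm (Fin (p ^ 2)))) :
    ∃ A : Subgroup ↥(W : Subgroup (Equiv.Perm (Fin (p ^ 2)))),
      IsMulCommutative A ∧ (∀ a ∈ A, a ^ p = 1) ∧ Nat.card A = p ^ p := by
  classical
  let B : Multiplicative (ZMod p → ZMod p) →* Equiv.Perm (ZMod p × ZMod p) :=
    MonoidHom.mk' (fun v => Transfer.affinePerm (v.toAdd, 0)) fun v w => by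
      show _ = Transfer.affinePerm (v.toAdd, 0) * Transfer.affinePerm (w.toAdd, 0)
      rw [Transfer.affinePerm_mul, toAdd_mul, add_comm]
      simp [Pi.add_def, add_comm]
  have hBi : Function.Injective B := fun v w h =>
    Multiplicative.toAdd.injective (congrArg Prod.fst (Transfer.affinePerm_injective h))
  have hBp : IsPGroup p B.range := by
    refine IsPGroup.of_surjective ?_ B.rangeRestrict B.rangeRestrict_surjective
    refine IsPGroup.of_card (n := p) ?_
    rw [Nat.card_congr Multiplicative.toAdd, Nat.card_fun, Nat.card_zmod]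
  let e : ZMod p × ZMod p ≃ Fin (p ^ 2) :=
    Finite.equivFinOfCardEq (by rw [Nat.card_prod, Nat.card_zmod, pow_two])
  let g0 := e.permCongrHom.toMonoidHom.comp B
  have hg0 : IsPGroup p g0.range := by
    rw [MonoidHom.range_comp]; exact hBp.map _
  obtain ⟨c, hc⟩ := Transfer.exists_map_conj_le_sylow hg0 W
  let g : Multiplicative (ZMod p → ZMod p) →* ↥(W : Subgroup (Equiv.Perm (Fin (p ^ 2)))) :=
    ((MulAut.conj c).toMonoidHom.comp g0).codRestrict _ fun v => hc ⟨g0 v, ⟨v, rfl⟩, rfl⟩
  have hgi : Function.Injective g := fun v w h =>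
    hBi (e.permCongrHom.injective ((MulAut.conj c).injective (congrArg Subtype.val h)))
  refine ⟨g.range, ⟨⟨?_⟩⟩, ?_, ?_⟩
  · rintro ⟨_, v, rfl⟩ ⟨_, w, rfl⟩
    exact Subtype.ext (show g v * g w = g w * g v by rw [← map_mul, mul_comm, map_mul])
  · rintro _ ⟨v, rfl⟩
    rw [← map_pow, show v ^ p = 1 from Multiplicative.toAdd.injective (by
      rw [toAdd_pow, toAdd_one]; funext i; simp), map_one]
  · rw [← Nat.card_congr (MonoidHom.ofInjective hgi).toEquiv, Nat.card_congr Multiplicative.toAdd,
      Nat.card_fun, Nat.card_zmod]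

/-- The wreath product is not a rank two group. -/
theorem noWreath_rankTwo_injective (hp2 : p ≠ 2) {P : Type*} [Group P]
    (hrk : Cfsg.PRankLE p 2 P) (W : Sylow p (Equiv.Perm (Fin (p ^ 2))))
    (f : P →* ↥(W : Subgroup (Equiv.Perm (Fin (p ^ 2))))) (hf : Function.Bijective f) : False := by
  obtain ⟨A, hA, hexp, hcard⟩ := exists_elementary_base W
  let e := MulEquiv.ofBijective f hf
  have h1 := hrk (A.map e.symm.toMonoidHom) inferInstance (by
    rintro _ ⟨a, ha, rfl⟩
    rw [← map_pow, hexp a ha, map_one])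
  rw [Subgroup.card_map_of_injective e.symm.injective, hcard] at h1
  have := (Nat.pow_le_pow_iff_right hp.out.one_lt).1 h1
  have := hp.out.two_le
  omega

end CfsgLib.IsolatedRankTwo
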