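import Mathlib
import Cfsg.Agent.Lib.Layer.Characteristic
import Cfsg.Agent.Lib.Layer.Radical
import Cfsg.Agent.Lib.Transfer.SmallElements
import Cfsg.Prelude.Def_Solvable
import Cfsg.Prelude.Def_IsolatedElements

/-!
An isolated element of order `p` in a group of `p`-rank at most two.
-/

set_option autoImplicit false
set_option linter.style.haveILetI false

namespace CfsgLib.IsolatedRankTwo

open Cfsg

variable {G : Type*} [Group G]

theorem isIsolated_conj {x : G} (h : IsIsolated x) (g : G) : IsIsolated (g * x * g⁻¹) := by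
  intro k hk
  have hc : Commute x ((g⁻¹ * k * g) * x * (g⁻¹ * k * g)⁻¹) := by
    have := hk.map (MulAut.conj g⁻¹).toMonoidHom
    simpa [mul_assoc] using this
  have h1 := h _ hc
  calc k * (g * x * g⁻¹) * k⁻¹ = g * ((g⁻¹ * k * g) * x * (g⁻¹ * k * g)⁻¹) * g⁻¹ := by group
    _ = g * x * g⁻¹ := by rw [h1]

/-- An isolated element of a `p`-subgroup is central in it. -/
theorem commute_of_mem_pGroup [Finite G] {p : ℕ} [Fact p.Prime] {x : G} (h : IsIsolated x)
    {S : Subgroup G} (hS : IsPGroup p S) (hx : x ∈ S) {s : G} (hs : s ∈ S) : Commute s x := by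
  haveI : Group.IsNilpotent S := hS.isNilpotent
  set C : Subgroup S := Subgroup.centralizer {(⟨x, hx⟩ : S)} with hC
  have hxC : (⟨x, hx⟩ : S) ∈ C := Subgroup.mem_centralizer_singleton_iff.mpr rfl
  have hn : Subgroup.normalizer (C : Set S) ≤ C := by
    intro t ht
    have h1 := (Subgroup.mem_normalizer_iff.mp ht _).mp hxC
    have h2 := Subgroup.mem_centralizer_singleton_iff.mp h1
    have h3 : Commute x ((t : G) * x * (t : G)⁻¹) := by
      have := congrArg Subtype.val h2
      simp only [Subgroup.coe_mul, Subgroup.coe_inv] at this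
      exact this.symm
    have h4 := h _ h3
    refine Subgroup.mem_centralizer_singleton_iff.mpr (Subtype.ext ?_)
    exact mul_inv_eq_iff_eq_mul.mp h4
  have hCt : C = ⊤ := by_contra fun hne =>
    (Group.normalizerCondition_of_isNilpotent (G := S) C (lt_top_iff_ne_top.2 hne)).not_ge hn
  have : (⟨s, hs⟩ : S) ∈ C := by rw [hCt]; trivial
  exact congrArg Subtype.val (Subgroup.mem_centralizer_singleton_iff.mp this)

theorem hasNormalPComplement_of_isolated {L : Type*} [Group L] [Finite L] {p : ℕ} [Fact p.Prime]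
    (hp : p ≠ 2) (h : ∀ l : L, orderOf l = p → IsIsolated l) :
    Cfsg.HasNormalPComplement p L := by
  refine Transfer.hasNormalPComplement_of_pAutomizers fun Q hQ g hg hgc => ?_
  refine Transfer.mem_centralizer_of_fixes_small hQ hg hgc fun a ha hsmall => ?_
  rcases hsmall with hap | ⟨h2, _⟩
  · rcases eq_or_ne a 1 with rfl | ha1
    · simp
    · have hoa := orderOf_eq_prime hap ha1
      exact h a hoa g (commute_of_mem_pGroup (h a hoa) hQ ha
        ((Subgroup.mem_normalizer_iff.mp hg a).mp ha)).symm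
  · exact absurd h2 hp

theorem not_hasNormalPComplement_of_perfect {L : Type*} [Group L] [Finite L] [Group.IsPerfect L]
    {p : ℕ} [Fact p.Prime] (hd : p ∣ Nat.card L) : ¬ Cfsg.HasNormalPComplement p L := by
  intro h
  haveI := Transfer.pResidual_normal p L
  have hK := Transfer.hasNormalPComplement_iff_pResidual.mp h
  haveI : Group.IsNilpotent (L ⧸ Cfsg.pResidual p L) :=
    (Transfer.isPGroup_quotient_pResidual).isNilpotent
  have hK' : Cfsg.pResidual p L = ⊤ := by
    by_contra hne
    haveI : Nontrivial (L ⧸ Cfsg.pResidual p L) := QuotientGroup.nontrivial_iff.mpr hne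
    exact (Group.IsSolvable.commutator_lt_top_of_nontrivial (L ⧸ Cfsg.pResidual p L)).ne
      (by
        rw [eq_top_iff, ← Subgroup.map_top_of_surjective _
          (QuotientGroup.mk'_surjective (Cfsg.pResidual p L)),
          ← Group.IsPerfect.commutator_eq_top (G := L), map_commutator_eq]
        exact Subgroup.commutator_mono le_top le_top)
  rw [hK', Subgroup.card_top] at hK
  exact hK hd

theorem exists_conj_mem [Finite G] {p : ℕ} [Fact p.Prime] {x : G} (hx : IsPGroup p (Subgroup.zpowers x))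
    {E : Subgroup G} (hE : IsPGroup p E) :
    ∃ g : G, ∃ T : Subgroup G, IsPGroup p T ∧ E ≤ T ∧ g * x * g⁻¹ ∈ T := by
  obtain ⟨T, hT⟩ := hE.exists_le_sylow
  obtain ⟨S, hS⟩ := hx.exists_le_sylow
  obtain ⟨g, hg⟩ := MulAction.exists_smul_eq G S T
  refine ⟨g, T, T.2, hT, ?_⟩
  rw [← hg]
  exact ⟨x, hS (Subgroup.mem_zpowers x), rfl⟩

variable [Finite G] {p : ℕ} [Fact p.Prime]

/-- If an element of order `p` of a perfect subgroup commutes with a subgroup `⟨d⟩` of order `p`
centralized by it, some conjugate of `x` lies in `⟨d⟩`. -/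
theorem conj_mem_zpowers (hp : p ≠ 2) (hrank : Cfsg.PRankLE p 2 G) {x : G} (hx : orderOf x = p)
    (hiso : IsIsolated x) {L : Subgroup G} [Group.IsPerfect L] (hpL : p ∣ Nat.card L) {d : G}
    (hd : orderOf d = p) (hdL : ∀ m ∈ L, Commute m d) :
    ∃ g : G, g * x * g⁻¹ ∈ Subgroup.zpowers d := by
  by_contra hcon
  refine not_hasNormalPComplement_of_perfect hpL (hasNormalPComplement_of_isolated hp ?_)
  rintro ⟨l, hlL⟩ hl m hm
  rw [← Subgroup.orderOf_coe] at hl
  change orderOf l = p at hl
  by_cases hlc : ∀ m ∈ L, Commute m l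
  · refine Subtype.ext ?_
    change (m : G) * l * (m : G)⁻¹ = l
    rw [(hlc m m.2).eq, mul_inv_cancel_right]
  have hlp : l ^ p = 1 := hl ▸ pow_orderOf_eq_one l
  have hdp : d ^ p = 1 := hd ▸ pow_orderOf_eq_one d
  have hld : Commute l d := hdL l hlL
  set E : Subgroup G := Subgroup.closure {l, d} with hE
  have hlE : l ∈ E := Subgroup.subset_closure (Set.mem_insert _ _)
  have hdE : d ∈ E := Subgroup.subset_closure (Set.mem_insert_of_mem _ rfl)
  have hEc : IsMulCommutative E := Subgroup.isMulCommutative_closure (by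
    rintro a (rfl | rfl) b (rfl | rfl)
    exacts [rfl, hld.eq, hld.symm.eq, rfl])
  have hEmem : ∀ z ∈ E, ∃ a b : ℤ, z = l ^ a * d ^ b := by
    intro z hz
    induction hz using Subgroup.closure_induction with
    | mem z hz =>
      rcases hz with rfl | rfl
      · exact ⟨1, 0, by simp⟩
      · exact ⟨0, 1, by simp⟩
    | one => exact ⟨0, 0, by simp⟩
    | mul z w _ _ hz hw =>
      obtain ⟨a, b, rfl⟩ := hz
      obtain ⟨a', b', rfl⟩ := hw
      refine ⟨a + a', b + b', ?_⟩
      rw [zpow_add, zpow_add]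
      exact ((hld.symm.zpow_zpow b a').mul_mul_mul_comm _ _)
    | inv z _ hz =>
      obtain ⟨a, b, rfl⟩ := hz
      exact ⟨-a, -b, by rw [mul_inv_rev, zpow_neg, zpow_neg, ((hld.zpow_zpow a b).inv_inv).eq]⟩
  have hexpE : ∀ z ∈ E, z ^ p = 1 := by
    intro z hz
    obtain ⟨a, b, rfl⟩ := hEmem z hz
    rw [(hld.zpow_zpow a b).mul_pow, ← zpow_natCast, ← zpow_natCast, ← zpow_mul, ← zpow_mul,
      mul_comm a, mul_comm b, zpow_mul, zpow_mul, zpow_natCast, zpow_natCast, hlp, hdp, one_zpow,
      one_zpow, one_mul]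
  have hEp : IsPGroup p E := fun z => ⟨1, Subtype.ext (by
    rw [pow_one, Subgroup.coe_pow]; exact hexpE z z.2)⟩
  have hxp : IsPGroup p (Subgroup.zpowers x) :=
    IsPGroup.of_card (n := 1) (by rw [Nat.card_zpowers, hx, pow_one])
  obtain ⟨g, T, hTp, hET, hgT⟩ := exists_conj_mem hxp hEp
  set y := g * x * g⁻¹ with hy
  have hyiso : IsIsolated y := isIsolated_conj hiso g
  have hyp : y ^ p = 1 := by rw [hy, conj_pow, ← hx, pow_orderOf_eq_one]; simp
  have hyc : ∀ z ∈ E, Commute z y := fun z hz => commute_of_mem_pGroup hyiso hTp hgT (hET hz)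
  set B : Subgroup G := Subgroup.closure {l, d, y} with hB
  haveI hBc : IsMulCommutative B := Subgroup.isMulCommutative_closure (by
    rintro a (rfl | rfl | rfl) b (rfl | rfl | rfl)
    exacts [rfl, hld.eq, (hyc _ hlE).eq, hld.symm.eq, rfl, (hyc _ hdE).eq, (hyc _ hlE).symm.eq,
      (hyc _ hdE).symm.eq, rfl])
  have hBexp : ∀ z ∈ B, z ^ p = 1 := by
    intro z hz
    induction hz using Subgroup.closure_induction with
    | mem z hz => rcases hz with rfl | rfl | rfl <;> assumption
    | one => exact one_pow p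
    | mul z w hz' hw' hz hw =>
      have hc : Commute z w :=
        congrArg Subtype.val (hBc.is_comm.comm ⟨z, hz'⟩ ⟨w, hw'⟩)
      rw [hc.mul_pow, hz, hw, one_mul]
    | inv z _ hz => rw [inv_pow, hz, inv_one]
  have hle : E ≤ B := Subgroup.closure_mono (by
    rintro a (rfl | rfl)
    exacts [Or.inl rfl, Or.inr (Or.inl rfl)])
  have hzd : Subgroup.zpowers d < E := by
    refine lt_of_le_of_ne (Subgroup.zpowers_le.mpr hdE) fun e => hlc fun m hm => ?_
    obtain ⟨k, hk⟩ := Subgroup.mem_zpowers_iff.mp (e ▸ hlE : l ∈ Subgroup.zpowers d)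
    rw [← hk]
    exact (hdL m hm).zpow_right k
  obtain ⟨n, hn⟩ := IsPGroup.iff_card.mp hEp
  have hn2 : 2 ≤ n := by
    by_contra hlt
    have h1 : Nat.card (Subgroup.zpowers d) < Nat.card E := by
      refine lt_of_le_of_ne (Subgroup.card_le_of_le hzd.le) fun e => hzd.ne ?_
      exact Subgroup.eq_of_le_of_card_ge hzd.le e.ge
    rw [Nat.card_zpowers, hd, hn] at h1
    have h2 : p ^ n ≤ p ^ 1 := Nat.pow_le_pow_right (Fact.out : p.Prime).pos (by omega)
    rw [pow_one] at h2
    omega
  have hEB : E = B := Subgroup.eq_of_le_of_card_ge hle (by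
    rw [hn]
    exact (hrank B hBc hBexp).trans (Nat.pow_le_pow_right (Fact.out : p.Prime).pos hn2))
  have hyB : y ∈ B := Subgroup.subset_closure (Or.inr (Or.inr rfl))
  obtain ⟨a, b, hab⟩ := hEmem y (hEB ▸ hyB)
  have hla : ¬ (p : ℤ) ∣ a := by
    intro hdvd
    have h1 : l ^ a = 1 := orderOf_dvd_iff_zpow_eq_one.mp (by rwa [hl])
    exact hcon ⟨g, by rw [← hy, hab, h1, one_mul]; exact Subgroup.zpow_mem_zpowers d b⟩
  set l' := (m : G) * l * (m : G)⁻¹ with hl'
  have hm' : Commute l l' := congrArg Subtype.val hm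
  have hmy : (m : G) * y * (m : G)⁻¹ = l' ^ a * d ^ b := by
    rw [hab, hl', conj_zpow]
    have : (m : G) * d ^ b = d ^ b * (m : G) := ((hdL m m.2).zpow_right b).eq
    calc (m : G) * (l ^ a * d ^ b) * (m : G)⁻¹
        = (m : G) * l ^ a * (d ^ b * (m : G)⁻¹) := by group
      _ = (m : G) * l ^ a * ((m : G)⁻¹ * d ^ b) := by
          rw [((hdL m m.2).zpow_right b).symm.inv_right.eq]
      _ = (m : G) * l ^ a * (m : G)⁻¹ * d ^ b := by group
  have hl'L : l' ∈ L := mul_mem (mul_mem m.2 hlL) (inv_mem m.2)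
  have hcomm : Commute y ((m : G) * y * (m : G)⁻¹) := by
    rw [hmy, hab]
    refine Commute.mul_right (Commute.mul_left ?_ ?_) (Commute.mul_left ?_ ?_)
    · exact hm'.zpow_zpow a a
    · exact ((hdL l' hl'L).zpow_zpow a b).symm
    · exact (hld.zpow_zpow a b)
    · exact Commute.refl _
  have h5 := hyiso _ hcomm
  rw [hmy, hab, mul_right_cancel_iff] at h5
  have hcop : IsCoprime a (p : ℤ) :=
    ((Nat.prime_iff_prime_int.mp (Fact.out : p.Prime)).coprime_iff_not_dvd.mpr hla).symm
  obtain ⟨u, v, huv⟩ := hcop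
  have hl'p : l' ^ p = 1 := by rw [hl', conj_pow, hlp]; simp
  have hroot : ∀ z : G, z ^ p = 1 → (z ^ a) ^ u = z := by
    intro z hz
    have : z ^ (a * u + (p : ℤ) * v) = z := by
      rw [show a * u + (p : ℤ) * v = 1 by rw [← huv]; ring, zpow_one]
    rwa [zpow_add, zpow_mul, zpow_mul, zpow_natCast, hz, one_zpow, mul_one] at this
  have h6 : l' = l := by rw [← hroot l' hl'p, h5, hroot l hlp]
  exact Subtype.ext h6

theorem center_le_fitting {L : Subgroup G} (hL : IsComponent L) {z : G} (hzL : z ∈ L)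
    (hz : ∀ m ∈ L, Commute m z) : z ∈ fittingSubgroup G := by
  have hzl : z ∈ layer G := Layer.isComponent_le_layer hL hzL
  have hc : (⟨z, hzl⟩ : layer G) ∈ Subgroup.center (layer G) := by
    refine Subgroup.mem_center_iff.mpr fun w => Subtype.ext ?_
    have hle : layer G ≤ Subgroup.centralizer {z} := by
      refine sSup_le fun K hK k hk => Subgroup.mem_centralizer_singleton_iff.mpr ?_
      rcases eq_or_ne K L with rfl | hne
      · exact (hz k hk).eq
      · have h := Subgroup.commutator_eq_bot_iff_le_centralizer.mp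
          (Layer.commutator_eq_bot_of_ne hK hL hne)
        exact (Subgroup.mem_centralizer_iff.mp (h hk) z hzL).symm
    exact Subgroup.mem_centralizer_singleton_iff.mp (hle w.2)
  have hn : ((Subgroup.center (layer G)).map (layer G).subtype).Normal := inferInstance
  haveI : Group.IsNilpotent (Subgroup.center (layer G)) := by
    letI : CommGroup (Subgroup.center (layer G)) :=
      { (inferInstance : Group (Subgroup.center (layer G))) with
        mul_comm := fun a b => Subtype.ext (Subgroup.mem_center_iff.mp b.2 a.1) }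
    exact CommGroup.isNilpotent
  exact Fitting.le_fittingSubgroup hn
    (Group.nilpotent_of_surjective _
      ((layer G).subtype.subgroupMap_surjective (Subgroup.center (layer G)))) ⟨_, hc, rfl⟩

theorem dvd_card_of_isComponent (hcore : pPrimeCore p G = ⊥) {L : Subgroup G}
    (hL : IsComponent L) : p ∣ Nat.card L := by
  by_contra h
  refine Layer.ne_bot_of_isComponent hL (le_bot_iff.mp (hcore ▸ ?_))
  exact Layer.le_pPrimeCore_of_isSubnormal hL.1
    ((Fact.out : p.Prime).coprime_iff_not_dvd.mpr h).symm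

theorem main (hp : p ≠ 2) (hcore : pPrimeCore p G = ⊥) (hrank : Cfsg.PRankLE p 2 G) {x : G}
    (hx : orderOf x = p) (hiso : IsIsolated x) (hnc : x ∉ Subgroup.center G) :
    IsSimpleGroup ↥(generalizedFittingSubgroup G) ∧
      ¬ IsMulCommutative ↥(generalizedFittingSubgroup G) := by
  have hF : fittingSubgroup G = pCore p G := Layer.fittingSubgroup_eq_pCore hcore
  have hFp : IsPGroup p (pCore p G) := Fitting.pCore_isPGroup p
  have hxp : IsPGroup p (Subgroup.zpowers x) :=
    IsPGroup.of_card (n := 1) (by rw [Nat.card_zpowers, hx, pow_one])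
  haveI := Fitting.pCore_normal (G := G) p
  have hxO : x ∉ pCore p G := by
    intro hxO
    refine hnc (Subgroup.mem_center_iff.mpr fun g => ?_)
    have h1 := hiso g (commute_of_mem_pGroup hiso hFp hxO
      (Subgroup.Normal.conj_mem inferInstance x hxO g)).symm
    exact mul_inv_eq_iff_eq_mul.mp h1
  have hF1 : fittingSubgroup G = ⊥ := by
    by_contra hne
    have hnoc : ∀ L : Subgroup G, ¬ IsComponent L := by
      intro L hL
      obtain ⟨k, hk⟩ := IsPGroup.iff_card.mp hFp
      have hdvd : p ∣ Nat.card (pCore p G) := by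
        rw [hk]
        refine dvd_pow_self p fun hk0 => hne ?_
        rw [hk0, pow_zero] at hk
        rw [hF]; exact Subgroup.eq_bot_of_card_eq _ hk
      obtain ⟨u, hu⟩ := exists_prime_orderOf_dvd_card' p hdvd
      haveI : Group.IsPerfect L := hL.2.1
      obtain ⟨g, hg⟩ := conj_mem_zpowers hp hrank hx hiso (dvd_card_of_isComponent hcore hL)
        (d := (u : G)) (by rw [Subgroup.orderOf_coe]; exact hu) (fun m hm => by
          have h := Subgroup.commutator_eq_bot_iff_le_centralizer.mp
            (Layer.commutator_layer_fitting (G := G)) (Layer.isComponent_le_layer hL hm)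
          exact (Subgroup.mem_centralizer_iff.mp h (u : G) (by rw [hF]; exact u.2)).symm)
      refine hxO ?_
      have hgx : g * x * g⁻¹ ∈ pCore p G := Subgroup.zpowers_le.mpr u.2 hg
      have := Subgroup.Normal.conj_mem inferInstance _ hgx g⁻¹
      simpa [mul_assoc] using this
    obtain ⟨g, T, hTp, hOT, hgT⟩ := exists_conj_mem hxp hFp
    have hlay : layer G = ⊥ := Layer.layer_eq_bot_iff.mpr hnoc
    have hy : g * x * g⁻¹ ∈ fittingSubgroup G := by
      refine Layer.centralizer_fittingSubgroup_le hlay ?_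
      rw [Subgroup.mem_centralizer_iff]
      intro f hf
      rw [hF] at hf
      exact (commute_of_mem_pGroup (isIsolated_conj hiso g) hTp hgT (hOT hf)).eq
    rw [hF] at hy
    refine hxO ?_
    have := Subgroup.Normal.conj_mem inferInstance _ hy g⁻¹
    simpa [mul_assoc] using this
  have hgf : generalizedFittingSubgroup G = layer G := by
    rw [generalizedFittingSubgroup, hF1, sup_bot_eq]
  obtain ⟨L, hL⟩ : ∃ L : Subgroup G, IsComponent L := by
    by_contra h
    have hlay : layer G = ⊥ := Layer.layer_eq_bot_iff.mpr (fun L hL => h ⟨L, hL⟩)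
    have h1 : x ∈ fittingSubgroup G := Layer.centralizer_fittingSubgroup_le hlay (by
      rw [hF1, Subgroup.mem_centralizer_iff]
      intro f hf
      rw [Subgroup.mem_bot.mp hf, one_mul, mul_one])
    exact hxO (hF ▸ h1)
  have htriv : ∀ K : Subgroup G, IsComponent K → ∀ z ∈ K, (∀ m ∈ K, Commute m z) → z = 1 := by
    intro K hK z hzK hz
    have := center_le_fitting hK hzK hz
    rwa [hF1, Subgroup.mem_bot] at this
  have huniq : ∀ K : Subgroup G, IsComponent K → K = L := by
    intro K hK
    by_contra hne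
    have hcomm : ∀ k ∈ K, ∀ l ∈ L, Commute k l := fun k hk l hl => by
      have h := Subgroup.commutator_eq_bot_iff_le_centralizer.mp
        (Layer.commutator_eq_bot_of_ne hK hL hne)
      exact (Subgroup.mem_centralizer_iff.mp (h hk) l hl).symm
    obtain ⟨l, hl⟩ := exists_prime_orderOf_dvd_card' p (dvd_card_of_isComponent hcore hL)
    obtain ⟨k, hk⟩ := exists_prime_orderOf_dvd_card' p (dvd_card_of_isComponent hcore hK)
    haveI : Group.IsPerfect K := hK.2.1
    haveI : Group.IsPerfect L := hL.2.1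
    obtain ⟨g, hg⟩ := conj_mem_zpowers hp hrank hx hiso (dvd_card_of_isComponent hcore hK)
      (d := (l : G)) (by rw [Subgroup.orderOf_coe]; exact hl) (fun m hm => hcomm m hm l l.2)
    obtain ⟨f, hf⟩ := conj_mem_zpowers hp hrank hx hiso (dvd_card_of_isComponent hcore hL)
      (d := (k : G)) (by rw [Subgroup.orderOf_coe]; exact hk)
      (fun m hm => (hcomm k k.2 m hm).symm)
    have hgL : g * x * g⁻¹ ∈ L := Subgroup.zpowers_le.mpr l.2 hg
    have hfK : f * x * f⁻¹ ∈ K := Subgroup.zpowers_le.mpr k.2 hf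
    have hc := hcomm _ hfK _ hgL
    have heq : g * x * g⁻¹ = f * x * f⁻¹ := by
      have h1 := isIsolated_conj hiso f (g * f⁻¹) (by
        rw [show g * f⁻¹ * (f * x * f⁻¹) * (g * f⁻¹)⁻¹ = g * x * g⁻¹ by group]; exact hc)
      rw [show g * f⁻¹ * (f * x * f⁻¹) * (g * f⁻¹)⁻¹ = g * x * g⁻¹ by group] at h1
      exact h1
    have h1 := htriv L hL _ hgL (fun m hm => by
      rw [heq]; exact (hcomm _ hfK m hm).symm)
    have : x = 1 := conj_eq_one_iff.mp h1
    rw [this, orderOf_one] at hx
    exact (Fact.out : p.Prime).ne_one hx.symm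
  have hlay : layer G = L :=
    le_antisymm (sSup_le fun K hK => (huniq K hK).le) (Layer.isComponent_le_layer hL)
  rw [hgf, hlay]
  have hcen : Subgroup.center L = ⊥ := by
    rw [Subgroup.eq_bot_iff_forall]
    intro z hz
    refine Subtype.ext ?_
    exact htriv L hL _ z.2 fun m hm => congrArg Subtype.val (Subgroup.mem_center_iff.mp hz ⟨m, hm⟩)
  refine ⟨?_, fun hcom => Layer.center_ne_top_of_isQuasisimple hL.2 ?_⟩
  · haveI := hL.2.2
    exact ((QuotientGroup.quotientMulEquivOfEq hcen).trans QuotientGroup.quotientBot).symm.isSimpleGroup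
  · exact top_le_iff.mp fun a _ => Subgroup.mem_center_iff.mpr fun b => hcom.is_comm.comm b a

end CfsgLib.IsolatedRankTwo
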