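import Cfsg.Agent.Lib.IsolatedRankTwo.Focal
import Cfsg.Agent.Lib.MaxClassLayers.Signs
import Cfsg.Agent.Lib.MaxClassLayers.Uniform
import Cfsg.Prelude.Def_CaseTheorems

/-!
A three-group of maximal class, rank two and even exponent of order is not a Sylow subgroup of a
perfect group whose normalizer fixes the centre.
-/

set_option autoImplicit false
set_option linter.style.haveILetI false
set_option linter.unusedSectionVars false

open scoped commutatorElement

namespace CfsgLib.IsolatedRankTwo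

open CfsgLib.MaxClassLayers
open CfsgLib.UniserialPower (Γ gamma_commutator)

universe u

variable {X : Type u} [Group X] [Finite X] {n : ℕ} [Fact (Nat.Prime 3)]

/-- Commuting of images from a commutator. -/
theorem commute_mk {m : ℕ} {a b : X} (h : ⁅a, b⁆ ∈ Γ X m) :
    Commute (QuotientGroup.mk' (Γ X m) a) (QuotientGroup.mk' (Γ X m) b) := by
  refine commutatorElement_eq_one_iff_mul_comm.1 ?_
  rw [← map_commutatorElement]
  exact (QuotientGroup.eq_one_iff _).2 h

/-- The commutator with a cube. -/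
theorem comm_cube {Y : Type*} [Group Y] {s g u c : Y} (hu : ⁅s, g⁆ = u) (hc : s * u * s⁻¹ = c * u)
    (hsc : Commute s c) (huc : Commute c u) : ⁅s ^ 3, g⁆ = c ^ 3 * u ^ 3 := by
  have h2 : s * (c * u) * s⁻¹ = c * (c * u) := by
    calc s * (c * u) * s⁻¹ = (s * c) * u * s⁻¹ := by group
      _ = c * (s * u * s⁻¹) := by rw [hsc.eq]; group
      _ = c * (c * u) := by rw [hc]
  calc ⁅s ^ 3, g⁆ = s * (s * ⁅s, g⁆ * s⁻¹) * s⁻¹ * (s * ⁅s, g⁆ * s⁻¹) * ⁅s, g⁆ := by
        rw [show s ^ 3 = s * s * s by simp [pow_succ]]; simp only [commutatorElement_def]; group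
    _ = c * (c * u) * (c * u) * u := by rw [hu, hc, h2]
    _ = c * c * (u * c) * u * u := by group
    _ = c * c * (c * u) * u * u := by rw [huc.eq]
    _ = c ^ 3 * u ^ 3 := by simp only [pow_succ, pow_zero, one_mul]; group

theorem card_twoStep_one (h : MC X 3 n) (hn : 4 ≤ n) :
    Nat.card (twoStep X 1) = 3 ^ (n - 1) := by
  have h1 := (twoStep X 1).card_mul_index
  rw [twoStep_index h le_rfl (by omega), h.card] at h1
  refine Nat.eq_of_mul_eq_mul_right (show 0 < 3 by norm_num) (h1.trans ?_)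
  rw [← pow_succ, show n - 1 + 1 = n by omega]

/-- The first two-step centralizer over the derived subgroup. -/
theorem exists_decomp (h : MC X 3 n) (hn : 4 ≤ n) {s : X} (hs : s ∈ twoStep X 1)
    (hs' : s ∉ Γ X 1) {t : X} (ht : t ∈ twoStep X 1) :
    ∃ i : ℤ, ∃ c ∈ Γ X 1, s ^ i * c = t := by
  have hle : Subgroup.zpowers s ⊔ Γ X 1 ≤ twoStep X 1 :=
    sup_le (Subgroup.zpowers_le.2 hs) (gamma_one_le_twoStep 1)
  have heq : Subgroup.zpowers s ⊔ Γ X 1 = twoStep X 1 := by
    refine Subgroup.eq_of_le_of_card_ge hle ?_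
    obtain ⟨a, ha⟩ := IsPGroup.iff_card.mp
      ((MaxClassLayers.isPGroup h).to_subgroup (Subgroup.zpowers s ⊔ Γ X 1))
    rw [card_twoStep_one h hn, ha]
    refine Nat.pow_le_pow_right (by norm_num) ?_
    by_contra hlt
    refine hs' ((Subgroup.eq_of_le_of_card_ge (le_sup_right : Γ X 1 ≤ Subgroup.zpowers s ⊔ _) ?_).symm ▸
      Subgroup.mem_sup_left (Subgroup.mem_zpowers s))
    rw [card_gamma h le_rfl (by omega), ha]
    exact Nat.pow_le_pow_right (by norm_num) (by omega)
  obtain ⟨a, ha, c, hc, e⟩ := Subgroup.mem_sup_of_normal_right.1 (heq.symm ▸ ht :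
    t ∈ Subgroup.zpowers s ⊔ Γ X 1)
  obtain ⟨i, rfl⟩ := Subgroup.mem_zpowers_iff.1 ha
  exact ⟨i, c, hc, e⟩

/-- Cubing moves the first two-step centralizer exactly two steps down. -/
theorem cube_level (h : MC X 3 n) (hn : 4 ≤ n) (hrk : Cfsg.PRankLE 3 2 X) {s : X}
    (hs : s ∈ twoStep X 1) (hs' : s ∉ Γ X 1) : s ^ 3 ∈ Γ X 2 ∧ s ^ 3 ∉ Γ X 3 := by
  have hp2 : (3 : ℕ) ≠ 2 := by norm_num
  have hU := hasUniform hp2 n X h
  have hpow : ∀ j, 1 ≤ j → ∀ d ∈ Γ X j, d ^ 3 ∈ Γ X (j + 2) := fun j hj d hd =>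
    power_mem h hU hj hd
  -- a partner outside the two-step centralizer
  obtain ⟨g, hg⟩ := exists_comm_notMem h hs'
  set u := ⁅s, g⁆ with hu
  have hu' : u ∉ Γ X 2 := fun hu2 => hg (by rw [← commutatorElement_inv]; exact inv_mem hu2)
  have hu1 : u ∈ Γ X 1 := by
    have := gamma_commutator (i := 0) (g := s) (k := g)
      (show s ∈ Γ X 0 from Subgroup.mem_top s)
    exact this
  have hgT : g ∉ twoStep X 1 := by
    intro hgT
    obtain ⟨i, c, hc, e⟩ := exists_decomp h hn hs hs' hgT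
    apply hg
    rw [← e, show ⁅s ^ i * c, s⁆ = s ^ i * ⁅c, s⁆ * (s ^ i)⁻¹ by
      simp only [commutatorElement_def]; group]
    exact (inferInstance : (Γ X 2).Normal).conj_mem _ (gamma_commutator hc) _
  have hsu : ⁅s, u⁆ ∈ Γ X 3 := by
    rw [← commutatorElement_inv]; exact inv_mem (hs u hu1)
  have hs1 : s ^ 3 ∈ Γ X 1 := by
    haveI : ((Γ X 1).subgroupOf (twoStep X 1)).Normal := inferInstance
    have hidx : ((Γ X 1).subgroupOf (twoStep X 1)).index = 3 := by
      have h1 := ((Γ X 1).subgroupOf (twoStep X 1)).card_mul_index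
      rw [card_twoStep_one h hn,
        Nat.card_congr (Subgroup.subgroupOfEquivOfLe (gamma_one_le_twoStep 1)).toEquiv,
        card_gamma h le_rfl (by omega)] at h1
      refine Nat.eq_of_mul_eq_mul_left (pow_pos (show 0 < 3 by norm_num) (n - 1 - 1)) (h1.trans ?_)
      rw [← pow_succ, show n - 1 - 1 + 1 = n - 1 by omega]
    have h1 := Subgroup.pow_index_mem ((Γ X 1).subgroupOf (twoStep X 1)) ⟨s, hs⟩
    rw [hidx] at h1
    exact h1
  have hs2 : s ^ 3 ∈ Γ X 2 := by
    by_contra hs2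
    refine hgT (mem_twoStep_of_mem h le_rfl hs1 hs2 ?_)
    have e := comm_cube (s := QuotientGroup.mk' (Γ X 3) s) (g := QuotientGroup.mk' (Γ X 3) g)
      (u := QuotientGroup.mk' (Γ X 3) u) (c := 1) (by rw [← map_commutatorElement])
      (by rw [one_mul, (commute_mk hsu).eq, mul_inv_cancel_right]) (Commute.one_right _)
      (Commute.one_left _)
    rw [← map_pow, ← map_pow, ← map_commutatorElement, one_pow, one_mul] at e
    have h3 : QuotientGroup.mk' (Γ X 3) (u ^ 3) = 1 :=
      (QuotientGroup.eq_one_iff _).2 (hpow 1 le_rfl u hu1)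
    exact (QuotientGroup.eq_one_iff _).1 (e.trans h3)
  refine ⟨hs2, fun hs3 => ?_⟩
  rcases eq_or_lt_of_le hn with h4 | h5
  · -- order `81`: the centralizer would be elementary of order `27`
    have hbot : Γ X 3 = ⊥ := gamma_eq_bot h (by omega)
    rw [hbot, Subgroup.mem_bot] at hs3
    have hsc : ∀ c ∈ Γ X 1, Commute c s := fun c hc => by
      have h1 := hs c hc
      rw [show 1 + 2 = 3 from rfl, hbot, Subgroup.mem_bot] at h1
      exact commutatorElement_eq_one_iff_mul_comm.1 h1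
    have hcc : ∀ c ∈ Γ X 1, ∀ d ∈ Γ X 1, Commute c d := fun c hc d hd => by
      have h1 := gamma_comm hc hd
      rw [show 1 + 1 + 1 = 3 from rfl, hbot, Subgroup.mem_bot] at h1
      exact commutatorElement_eq_one_iff_mul_comm.1 h1
    haveI : IsMulCommutative (twoStep X 1) := ⟨⟨fun a b => by
      obtain ⟨i, c, hc, ea⟩ := exists_decomp h hn hs hs' a.2
      obtain ⟨j, d, hd, eb⟩ := exists_decomp h hn hs hs' b.2
      refine Subtype.ext ?_
      show (a : X) * b = b * a
      rw [← ea, ← eb]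
      exact (Commute.mul_left (((Commute.refl s).zpow_zpow i j).mul_right ((hsc d hd).symm.zpow_left i))
        (((hsc c hc).zpow_right j).mul_right (hcc c hc d hd))).eq⟩⟩
    have h1 := hrk (twoStep X 1) inferInstance fun a ha => by
      obtain ⟨i, c, hc, rfl⟩ := exists_decomp h hn hs hs' ha
      have hc3 : c ^ 3 = 1 := by
        have h1 := hpow 1 le_rfl c hc
        rwa [show 1 + 2 = 3 from rfl, hbot, Subgroup.mem_bot] at h1
      rw [((hsc c hc).symm.zpow_left i).mul_pow, hc3, mul_one, ← zpow_natCast, ← zpow_mul,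
        mul_comm, zpow_mul, zpow_natCast, hs3, one_zpow]
    rw [card_twoStep_one h hn] at h1
    have := (Nat.pow_le_pow_iff_right (show 1 < 3 by norm_num)).1 h1
    omega
  · refine power_notMem h hU le_rfl hu1 hu' (by omega) (?_ : u ^ 3 ∈ Γ X (1 + 3))
    set π := QuotientGroup.mk' (Γ X (1 + 3)) with hπ
    have hcent : ∀ a ∈ Γ X 3, ∀ b : X, Commute (π a) (π b) := fun a ha b =>
      commute_mk (gamma_commutator ha)
    have e := comm_cube (s := π s) (g := π g) (u := π u) (c := π ⁅s, u⁆)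
      (by rw [← map_commutatorElement]) (by
        rw [← map_inv, ← map_mul, ← map_mul, ← map_mul]
        congr 1
        simp [commutatorElement_def]) (hcent _ hsu s).symm (hcent _ hsu u)
    rw [← map_pow, ← map_pow, ← map_pow, ← map_commutatorElement] at e
    have h1 : π ⁅s ^ 3, g⁆ = 1 := (QuotientGroup.eq_one_iff _).2 (gamma_commutator hs3)
    have h2 : π (⁅s, u⁆ ^ 3) = 1 :=
      (QuotientGroup.eq_one_iff _).2 (gamma_anti (by norm_num) (hpow 3 (by norm_num) _ hsu))
    rw [h1, h2, one_mul] at e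
    exact (QuotientGroup.eq_one_iff _).1 e.symm

/-- A central element lies in the last layer. -/
theorem center_le_last (h : MC X 3 n) {y : X} (hy : y ∈ Subgroup.center X) : y ∈ Γ X (n - 2) := by
  have hy1 : y ∈ Γ X 1 := by
    by_contra hy1
    obtain ⟨g, hg⟩ := exists_comm_notMem h hy1
    exact hg (by
      rw [commutatorElement_eq_one_iff_mul_comm.2 (Subgroup.mem_center_iff.1 hy g)]
      exact one_mem _)
  have hne : (⊥ : Subgroup X) ≠ ⊤ := by
    intro e
    have h1 : Nat.card (⊥ : Subgroup X) = Nat.card (⊤ : Subgroup X) := by rw [e]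
    rw [Subgroup.card_bot, Subgroup.card_top, h.card] at h1
    exact (Nat.one_lt_pow (by have := h.three_le; omega) (by norm_num)).ne h1
  obtain ⟨M, hM, -⟩ := (IsCoatomic.eq_top_or_exists_le_coatom (⊥ : Subgroup X)).resolve_left hne
  obtain ⟨z, -, hz⟩ := hasUniform (by norm_num) n X h M hM
  exact cent_inf_gamma h hz
    ⟨Subgroup.mem_centralizer_singleton_iff.2 (Subgroup.mem_center_iff.1 hy z).symm, hy1⟩

/-- An automorphism fixing the centre fixes the top of the two-step centralizer when `n` is even. -/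
theorem fixed_top (h : MC X 3 n) (hn : 4 ≤ n) (heven : Even n) (hrk : Cfsg.PRankLE 3 2 X) {y : X}
    (hy : y ≠ 1) (hyc : y ∈ Subgroup.center X) (α : MulAut X) (hα : α y = y) {s : X}
    (hs : s ∈ twoStep X 1) (hs' : s ∉ Γ X 1) : s⁻¹ * α s ∈ Γ X 1 := by
  have hp2 : (3 : ℕ) ≠ 2 := by norm_num
  have hU := hasUniform hp2 n X h
  obtain ⟨i, c, hc, e⟩ := exists_decomp h hn hs hs' (twoStep_apply α hs)
  obtain ⟨hs32, hs33⟩ := cube_level h hn hrk hs hs'
  have hs31 : s ^ 3 ∈ Γ X 1 := gamma_anti (by norm_num) hs32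
  obtain ⟨q, r, hr, hi⟩ : ∃ q r : ℤ, (r = 0 ∨ r = 1 ∨ r = -1) ∧ i = r + 3 * q := by
    have h3 : i % 3 = 0 ∨ i % 3 = 1 ∨ i % 3 = 2 := by omega
    rcases h3 with h3 | h3 | h3
    · exact ⟨i / 3, 0, Or.inl rfl, by omega⟩
    · exact ⟨i / 3, 1, Or.inr (Or.inl rfl), by omega⟩
    · exact ⟨i / 3 + 1, -1, Or.inr (Or.inr rfl), by omega⟩
  set d := (s ^ 3) ^ q * c with hd
  have hdΓ : d ∈ Γ X 1 := mul_mem (Subgroup.zpow_mem _ hs31 q) hc
  have e' : α s = s ^ r * d := by
    rw [← e, hi, zpow_add, zpow_mul, hd, ← zpow_natCast]; simp [mul_assoc]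
  rcases hr with rfl | rfl | rfl
  · exfalso
    refine hs' ?_
    have := gamma_apply α⁻¹ (show α s ∈ Γ X 1 by rw [e', zpow_zero, one_mul]; exact hdΓ)
    rwa [MulAut.inv_apply_self] at this
  · rw [e', zpow_one, inv_mul_cancel_left]; exact hdΓ
  exfalso
  -- an automorphism inverting the top inverts the centre
  have key : ∀ k : ℕ, 1 ≤ k → 2 * k + 2 ≤ n → s ^ 3 ^ k ∈ Γ X (2 * k) ∧
      s ^ 3 ^ k ∉ Γ X (2 * k + 1) ∧ α (s ^ 3 ^ k) * s ^ 3 ^ k ∈ Γ X (2 * k + 1) := by
    intro k hk
    induction k, hk using Nat.le_induction with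
    | base =>
      intro _
      refine ⟨by simpa using hs32, by simpa using hs33, ?_⟩
      show α (s ^ 3 ^ 1) * s ^ 3 ^ 1 ∈ Γ X 3
      rw [pow_one, map_pow, e', zpow_neg_one, ← QuotientGroup.eq_one_iff, ← QuotientGroup.mk'_apply,
        map_mul, map_pow, map_mul, map_inv, map_pow]
      have hcom : Commute (QuotientGroup.mk' (Γ X 3) s) (QuotientGroup.mk' (Γ X 3) d) :=
        (commute_mk (hs d hdΓ)).symm
      rw [hcom.inv_left.mul_pow, show QuotientGroup.mk' (Γ X 3) d ^ 3 = 1 by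
        rw [← map_pow]; exact (QuotientGroup.eq_one_iff _).2 (power_mem h hU le_rfl hdΓ),
        mul_one, inv_pow, inv_mul_cancel]
    | succ k hk ih =>
      intro hkn
      obtain ⟨h1, h2, h3⟩ := ih (by omega)
      have e1 : s ^ 3 ^ (k + 1) = (s ^ 3 ^ k) ^ 3 := by rw [pow_succ, pow_mul]
      rw [e1, show 2 * (k + 1) = 2 * k + 2 by ring]
      refine ⟨power_mem h hU (by omega) h1, power_notMem h hU (by omega) h1 h2 (by omega), ?_⟩
      set w := s ^ 3 ^ k with hw
      set d' := α w * w with hd'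
      rw [map_pow, show α w = d' * w⁻¹ by rw [hd', mul_inv_cancel_right]]
      rw [← QuotientGroup.eq_one_iff, ← QuotientGroup.mk'_apply, map_mul, map_pow, map_pow, map_mul,
        map_inv]
      have hcom : Commute (QuotientGroup.mk' (Γ X (2 * k + 2 + 1)) d')
          (QuotientGroup.mk' (Γ X (2 * k + 2 + 1)) w) :=
        commute_mk (gamma_anti (by omega) (gamma_comm h3 h1))
      rw [hcom.inv_right.mul_pow, show QuotientGroup.mk' (Γ X (2 * k + 2 + 1)) d' ^ 3 = 1 by
        rw [← map_pow]; exact (QuotientGroup.eq_one_iff _).2 (power_mem h hU (by omega) h3),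
        one_mul, inv_pow, inv_mul_cancel]
  obtain ⟨a, ha⟩ := heven
  obtain ⟨h1, h2, h3⟩ := key (a - 1) (by omega) (by omega)
  rw [show 2 * (a - 1) = n - 2 by omega] at h1 h2 h3
  have hbot : Γ X (n - 2 + 1) = ⊥ := gamma_eq_bot h (by omega)
  rw [hbot, Subgroup.mem_bot] at h2 h3
  set w := s ^ 3 ^ (a - 1) with hw
  have hcard : Nat.card (Γ X (n - 2)) = 3 := by
    rw [card_gamma h (by omega) (by omega), show n - 1 - (n - 2) = 1 by omega, pow_one]
  have hz : Subgroup.zpowers y = Γ X (n - 2) := by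
    refine Subgroup.eq_of_le_of_card_ge (Subgroup.zpowers_le.2 (center_le_last h hyc)) ?_
    rw [hcard, Nat.card_zpowers]
    have h4 : orderOf y ∣ 3 := by
      have := Subgroup.orderOf_dvd_natCard _ (center_le_last h hyc)
      rwa [hcard] at this
    rcases (Nat.dvd_prime Fact.out).1 h4 with h5 | h5
    · exact absurd (orderOf_eq_one_iff.1 h5) hy
    · omega
  obtain ⟨j, hj⟩ := Subgroup.mem_zpowers_iff.1 (hz.symm ▸ h1 : w ∈ Subgroup.zpowers y)
  have hww : w * w = 1 := by
    have h5 : α w = w := by rw [← hj, map_zpow, hα]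
    rwa [h5] at h3
  have h6 : w ^ 3 = 1 := by
    have := Subgroup.orderOf_dvd_natCard _ h1
    rw [hcard] at this
    exact orderOf_dvd_iff_pow_eq_one.1 this
  refine h2 ?_
  rwa [pow_succ, pow_two, hww, one_mul] at h6

/-- No quotient `Z₃ ≀ Z₃`. -/
theorem noWreath_maxClass (h : MC X 3 n) (hn : 4 ≤ n) (hrk : Cfsg.PRankLE 3 2 X) :
    NoWreath 3 X := by
  rintro ⟨W, f, hf⟩
  have hW : Nat.card ↥(W : Subgroup (Equiv.Perm (Fin (3 ^ 2)))) = 3 ^ 4 := by
    rw [W.card_eq_multiplicity, Nat.card_perm, Nat.card_fin,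
      show (Nat.factorial (3 ^ 2)) = 3 ^ 4 * 4480 by decide,
      Nat.factorization_mul (by norm_num) (by norm_num), Finsupp.add_apply,
      Nat.Prime.factorization_pow (by norm_num), Finsupp.single_eq_same,
      Nat.factorization_eq_zero_of_not_dvd (by norm_num : ¬ 3 ∣ 4480), add_zero]
  have hkerc : Nat.card f.ker = 3 ^ (n - 4) := by
    have h1 := f.ker.card_mul_index
    rw [Subgroup.index_ker, MonoidHom.range_eq_top.2 hf, Subgroup.card_top, hW, h.card] at h1
    refine Nat.eq_of_mul_eq_mul_right (show 0 < 3 ^ 4 by norm_num) (h1.trans ?_)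
    rw [← pow_add, show n - 4 + 4 = n by omega]
  rcases eq_or_lt_of_le hn with h4 | h5
  · refine noWreath_rankTwo_injective (by norm_num) hrk W f ⟨?_, hf⟩
    rw [← MonoidHom.ker_eq_bot_iff]
    exact Subgroup.eq_bot_of_card_eq _ (by rw [hkerc, ← h4]; rfl)
  have h3W : Γ ↥(W : Subgroup (Equiv.Perm (Fin (3 ^ 2)))) 3 = ⊥ := by
    refine Subgroup.eq_bot_of_card_le _ ((MaxClass.card_lcs_succ_le hW 2).trans ?_)
    norm_num
  have hle : Γ X 3 ≤ f.ker := by
    intro a ha
    have h1 : f a ∈ (Γ X 3).map f := ⟨a, ha, rfl⟩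
    rw [show (Γ X 3).map f = Γ ↥(W : Subgroup (Equiv.Perm (Fin (3 ^ 2)))) 3 by
      show ((⊤ : Subgroup X).lowerCentralSeries 3).map f = _
      rw [Subgroup.map_lowerCentralSeries, Subgroup.map_top_of_surjective _ hf], h3W,
      Subgroup.mem_bot] at h1
    exact h1
  have hker : Γ X 3 = f.ker := Subgroup.eq_of_le_of_card_ge hle (by
    rw [hkerc, card_gamma h (by norm_num) (by omega), show n - 1 - 3 = n - 4 by omega])
  obtain ⟨A, hA, hexp, hcard⟩ := exists_elementary_base W
  set E := A.comap f with hE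
  have hidx : E.index = 3 := by
    rw [hE, Subgroup.index_comap_of_surjective _ hf]
    have h1 := A.card_mul_index
    rw [hcard, hW] at h1
    omega
  have hco : IsCoatom E := by
    refine ⟨fun e => by rw [e, Subgroup.index_top] at hidx; omega, fun B hB => ?_⟩
    rcases (Nat.dvd_prime (Fact.out : Nat.Prime 3)).1 (hidx ▸ Subgroup.index_dvd_of_le hB.le) with e | e
    · exact Subgroup.index_eq_one.1 e
    · refine absurd (Subgroup.eq_of_le_of_card_ge hB.le ?_) hB.ne
      have h1 := E.card_mul_index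
      have h2 := B.card_mul_index
      rw [hidx] at h1
      rw [e] at h2
      omega
  have h1E := (coatom_gamma_one_le h hco).1
  have hET : E ≤ twoStep X 1 := by
    intro a ha g hg
    show ⁅g, a⁆ ∈ Γ X 3
    rw [hker, MonoidHom.mem_ker, map_commutatorElement, commutatorElement_eq_one_iff_mul_comm]
    exact congrArg Subtype.val (mul_comm' (⟨f g, h1E hg⟩ : A) ⟨f a, ha⟩)
  have heq : E = twoStep X 1 :=
    (MaxClassLayers.eq_of_le_of_index hidx hET (twoStep_ne_top h (by omega))).symm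
  obtain ⟨s, e, hs, hs', -, -⟩ := exists_pair h hn
  refine (cube_level h hn hrk hs hs').2 ?_
  rw [hker, MonoidHom.mem_ker, map_pow]
  exact hexp _ (heq.symm ▸ hs : s ∈ E)

/-- No perfect group has such a Sylow subgroup. -/
theorem false_of_maxClass_even {L : Type u} [Group L] [Finite L] (hL : commutator L = ⊤)
    (P : Sylow 3 L) (hrk : Cfsg.PRankLE 3 2 ↥(P : Subgroup L)) (hMC : MC ↥(P : Subgroup L) 3 n)
    (hn : 4 ≤ n) (heven : Even n) (y : ↥(P : Subgroup L)) (hy : y ≠ 1)
    (hyc : y ∈ Subgroup.center ↥(P : Subgroup L))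
    (hyN : ∀ g ∈ Subgroup.normalizer ((P : Subgroup L) : Set L), g * y * g⁻¹ = y) : False := by
  set X := ↥(P : Subgroup L)
  haveI : (Γ X 1).Normal := inferInstance
  letI : CommGroup (X ⧸ Γ X 1) :=
    { (inferInstance : Group (X ⧸ Γ X 1)) with
      mul_comm := fun a b => by
        obtain ⟨a, rfl⟩ := QuotientGroup.mk'_surjective _ a
        obtain ⟨b, rfl⟩ := QuotientGroup.mk'_surjective _ b
        refine (commute_mk ?_).eq
        exact gamma_commutator (i := 0) (show a ∈ Γ X 0 from Subgroup.mem_top a) }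
  obtain ⟨s, e, hs, hs', -, -⟩ := exists_pair hMC hn
  refine hs' ((QuotientGroup.eq_one_iff s).1 ?_)
  refine eq_one_of_fixed hL P (noWreath_maxClass hMC hn hrk) (QuotientGroup.mk' (Γ X 1)) s ?_
  intro g hg b hb
  let α : MulAut X :=
    { toFun := fun a => ⟨g * a * g⁻¹, (Subgroup.mem_normalizer_iff.1 hg _).1 a.2⟩
      invFun := fun a => ⟨g⁻¹ * a * g, (Subgroup.mem_normalizer_iff.1 hg _).2 (by
        simp [mul_assoc])⟩
      left_inv := fun a => Subtype.ext (by simp [mul_assoc])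
      right_inv := fun a => Subtype.ext (by simp [mul_assoc])
      map_mul' := fun a a' => Subtype.ext (by
        show g * ((a : L) * a') * g⁻¹ = g * a * g⁻¹ * (g * a' * g⁻¹)
        group) }
  have hb' : b = α s := Subtype.ext hb
  have h1 := fixed_top hMC hn heven hrk hy hyc α (Subtype.ext (hyN g hg)) hs hs'
  rw [hb']
  exact (QuotientGroup.eq.2 h1).symm

end CfsgLib.IsolatedRankTwo
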