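import Cfsg.Agent.Lib.IsolatedRankTwo.Focal
import Cfsg.Agent.Lib.PGroup.MetacyclicOdd
import Cfsg.Agent.Lib.PSolvable.Omega
import Cfsg.Agent.Lib.Groups.SelfCentPrime
import Cfsg.Agent.S1447

/-!
A Sylow `p`-subgroup, `p` odd, of rank at most two of a perfect group, with a nontrivial central
element of order `p` fixed by its normalizer, is neither abelian nor metacyclic nor of one of the
two further shapes occurring in the classification of groups of rank two.
-/

set_option autoImplicit false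
set_option linter.style.haveILetI false

namespace CfsgLib.IsolatedRankTwo

open scoped commutatorElement

variable {p : ℕ} [hp : Fact p.Prime]

section RankTwo

variable {P : Type*} [Group P]

/-- The elementary abelian subgroup generated by two elements is maximal. -/
theorem mem_closure_pair_of_rankTwo [Finite P] (hrk : Cfsg.PRankLE p 2 P) {u v w : P}
    (hu : u ^ p = 1) (hv : v ^ p = 1) (hw : w ^ p = 1) (huv : Commute u v) (huw : Commute u w)
    (hvw : Commute v w) (hv1 : v ≠ 1) (hne : u ∉ Subgroup.zpowers v) :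
    w ∈ Subgroup.closure ({u, v} : Set P) := by
  set B : Subgroup P := Subgroup.closure {u, v, w} with hB
  haveI hBc : IsMulCommutative B := Subgroup.isMulCommutative_closure (by
    rintro a (rfl | rfl | rfl) b (rfl | rfl | rfl)
    exacts [rfl, huv.eq, huw.eq, huv.symm.eq, rfl, hvw.eq, huw.symm.eq, hvw.symm.eq, rfl])
  have hBexp : ∀ z ∈ B, z ^ p = 1 := by
    intro z hz
    induction hz using Subgroup.closure_induction with
    | mem z hz => rcases hz with rfl | rfl | rfl <;> assumption
    | one => exact one_pow p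
    | mul a b ha' hb' ha hb =>
      have hc : Commute a b := congrArg Subtype.val (hBc.is_comm.comm ⟨a, ha'⟩ ⟨b, hb'⟩)
      rw [hc.mul_pow, ha, hb, one_mul]
    | inv a _ ha => rw [inv_pow, ha, inv_one]
  set E : Subgroup P := Subgroup.closure {u, v} with hE
  have hEB : E ≤ B := Subgroup.closure_mono (by
    rintro a (rfl | rfl)
    exacts [Or.inl rfl, Or.inr (Or.inl rfl)])
  have hwB : w ∈ B := Subgroup.subset_closure (Or.inr (Or.inr rfl))
  have hzE : Subgroup.zpowers v < E := by
    refine lt_of_le_of_ne (Subgroup.zpowers_le.mpr (Subgroup.subset_closure (Or.inr rfl))) fun e => hne ?_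
    rw [e]; exact Subgroup.subset_closure (Or.inl rfl)
  have hEp : IsPGroup p E := fun z => ⟨1, Subtype.ext (by
    rw [pow_one, Subgroup.coe_pow]; exact hBexp z (hEB z.2))⟩
  obtain ⟨n, hn⟩ := IsPGroup.iff_card.mp hEp
  have hn2 : 2 ≤ n := by
    by_contra hlt
    have h1 : Nat.card (Subgroup.zpowers v) < Nat.card E := by
      refine lt_of_le_of_ne (Subgroup.card_le_of_le hzE.le) fun e => hzE.ne ?_
      exact Subgroup.eq_of_le_of_card_ge hzE.le e.ge
    rw [Nat.card_zpowers, orderOf_eq_prime hv hv1, hn] at h1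
    have h2 : p ^ n ≤ p ^ 1 := Nat.pow_le_pow_right hp.out.pos (by omega)
    rw [pow_one] at h2
    omega
  have hEq : E = B := Subgroup.eq_of_le_of_card_ge hEB (by
    rw [hn]
    exact (hrk B hBc hBexp).trans (Nat.pow_le_pow_right hp.out.pos hn2))
  rw [hEq]
  exact hwB

/-- A group with commutative multiplication has no wreath quotient. -/
theorem noWreath_of_comm (hp2 : p ≠ 2) (hab : ∀ a b : P, a * b = b * a) : NoWreath p P := by
  refine noWreath_of_map fun W f hf hne => hne ?_
  have h1 : (⊤ : Subgroup P).lowerCentralSeries (0 + 1) = ⊥ :=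
    Subgroup.lowerCentralSeries_succ_eq_bot _ fun x _ =>
      Subgroup.mem_center_iff.mpr fun y => hab y x
  have := hp.out.two_le
  rw [le_bot_iff.mp (((⊤ : Subgroup P).lowerCentralSeries_antitone
    (show 0 + 1 ≤ p - 1 by omega)).trans h1.le), Subgroup.map_bot]

/-- A metacyclic group has no wreath quotient. -/
theorem noWreath_of_metacyclic (hp2 : p ≠ 2) (hm : Cfsg.IsMetacyclic P) : NoWreath p P := by
  rintro ⟨W, f, hf⟩
  obtain ⟨A, hA, hexp, hcard⟩ := exists_elementary_base W
  obtain ⟨N, hN, hNc, hQ⟩ := Metacyclic.isMetacyclic_subgroup hm (A.comap f)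
  haveI := hN
  haveI := hNc
  haveI := hQ
  let g : A.comap f →* A := f.subgroupComap A
  have hg : Function.Surjective g := fun a => by
    obtain ⟨x, hx⟩ := hf (a : ↥(W : Subgroup (Equiv.Perm (Fin (p ^ 2)))))
    exact ⟨⟨x, show f x ∈ A by rw [hx]; exact a.2⟩, Subtype.ext hx⟩
  haveI hMn : (N.map g).Normal := hN.map g hg
  haveI : IsCyclic (N.map g) :=
    isCyclic_of_surjective (g.subgroupMap N) (g.subgroupMap_surjective N)
  haveI : IsCyclic (A ⧸ N.map g) :=
    isCyclic_of_surjective (QuotientGroup.map N (N.map g) g (Subgroup.le_comap_map g N)) (by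
      intro q
      induction q using QuotientGroup.induction_on with
      | H a =>
        obtain ⟨x, rfl⟩ := hg a
        exact ⟨x, rfl⟩)
  have hM : Nat.card (N.map g) ≤ p := by
    obtain ⟨c, hc⟩ := IsCyclic.exists_ofOrder_eq_natCard (α := N.map g)
    rw [← hc]
    refine Nat.le_of_dvd hp.out.pos (orderOf_dvd_of_pow_eq_one (Subtype.ext (Subtype.ext ?_)))
    exact hexp _ (c : A).2
  have hAM : Nat.card (A ⧸ N.map g) ≤ p := by
    obtain ⟨c, hc⟩ := IsCyclic.exists_ofOrder_eq_natCard (α := A ⧸ N.map g)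
    rw [← hc]
    refine Nat.le_of_dvd hp.out.pos (orderOf_dvd_of_pow_eq_one ?_)
    induction c using QuotientGroup.induction_on with
    | H a =>
      rw [← QuotientGroup.mk_pow, show a ^ p = 1 from Subtype.ext (hexp a a.2), QuotientGroup.mk_one]
  have h1 : Nat.card A ≤ p ^ 2 :=
    (Subgroup.card_eq_card_quotient_mul_card_subgroup (N.map g)).le.trans
      ((Nat.mul_le_mul hAM hM).trans_eq (pow_two p).symm)
  rw [hcard] at h1
  have := (Nat.pow_le_pow_iff_right hp.out.one_lt).1 h1
  have := hp.out.two_le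
  omega

theorem commutator_le_of_gen {S : Set P} (hS : Subgroup.closure S = ⊤) (M : Subgroup P) [M.Normal]
    (h : ∀ a ∈ S, ∀ b ∈ S, Commute (QuotientGroup.mk' M a) (QuotientGroup.mk' M b)) :
    commutator P ≤ M := by
  have hgen : Subgroup.closure (QuotientGroup.mk' M '' S) = ⊤ := by
    rw [← MonoidHom.map_closure, hS,
      Subgroup.map_top_of_surjective _ (QuotientGroup.mk'_surjective M)]
  have hc : IsMulCommutative ↥(Subgroup.closure (QuotientGroup.mk' M '' S)) :=
    Subgroup.isMulCommutative_closure (by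
      rintro _ ⟨a, ha, rfl⟩ _ ⟨b, hb, rfl⟩
      exact (h a ha b hb).eq)
  rw [commutator_def, Subgroup.commutator_le]
  intro a _ b _
  rw [← QuotientGroup.eq_one_iff (N := M), ← QuotientGroup.mk'_apply, map_commutatorElement,
    commutatorElement_eq_one_iff_mul_comm]
  exact congrArg Subtype.val (hc.is_comm.comm
    (⟨QuotientGroup.mk' M a, hgen ▸ Subgroup.mem_top _⟩ : Subgroup.closure (QuotientGroup.mk' M '' S))
    ⟨QuotientGroup.mk' M b, hgen ▸ Subgroup.mem_top _⟩)

theorem mem_center_of_gen {S : Set P} (hS : Subgroup.closure S = ⊤) {a : P}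
    (h : ∀ s ∈ S, Commute s a) : a ∈ Subgroup.center P := by
  have hle : (⊤ : Subgroup P) ≤ Subgroup.centralizer {a} := by
    rw [← hS, Subgroup.closure_le]
    exact fun s hs => Subgroup.mem_centralizer_singleton_iff.mpr (h s hs)
  exact Subgroup.mem_center_iff.mpr fun g =>
    Subgroup.mem_centralizer_singleton_iff.mp (hle (Subgroup.mem_top g))

theorem forall_pair {α : Type*} {q : α → Prop} {a b : α} (ha : q a) (hb : q b) :
    ∀ s ∈ ({a, b} : Set α), q s := by
  rintro s (h | h) <;> rw [h] <;> assumption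

theorem forall_triple {α : Type*} {q : α → Prop} {a b c : α} (ha : q a) (hb : q b) (hc : q c) :
    ∀ s ∈ ({a, b, c} : Set α), q s := by
  rintro s (h | h | h) <;> rw [h] <;> assumption

theorem closure_triple_le {a b c : P} {V : Subgroup P} (ha : a ∈ V) (hb : b ∈ V) (hc : c ∈ V) :
    Subgroup.closure ({a, b, c} : Set P) ≤ V :=
  (Subgroup.closure_le V).mpr (forall_triple (q := fun s => s ∈ V) ha hb hc)

theorem closure_pair_le {a b : P} {V : Subgroup P} (ha : a ∈ V) (hb : b ∈ V) :
    Subgroup.closure ({a, b} : Set P) ≤ V :=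
  (Subgroup.closure_le V).mpr (forall_pair (q := fun s => s ∈ V) ha hb)

theorem normal_closure_of_gen [Finite P] {S U : Set P} (hS : Subgroup.closure S = ⊤)
    (h : ∀ g ∈ S, ∀ u ∈ U, g⁻¹ * u * g ∈ Subgroup.closure U) : (Subgroup.closure U).Normal := by
  refine Subgroup.normalizer_eq_top_iff.mp (top_le_iff.mp ?_)
  rw [← hS, Subgroup.closure_le]
  intro g hg
  rw [SetLike.mem_coe, ← inv_mem_iff (x := g)]
  refine Subgroup.mem_normalizer_fintype ?_
  intro w hw
  show g⁻¹ * w * g⁻¹⁻¹ ∈ Subgroup.closure U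
  rw [inv_inv]
  induction hw using Subgroup.closure_induction with
  | mem u hu => exact h g hg u hu
  | one => simp
  | mul a b ha hb iha ihb =>
    rw [show g⁻¹ * (a * b) * g = (g⁻¹ * a * g) * (g⁻¹ * b * g) by group]
    exact mul_mem iha ihb
  | inv a ha iha =>
    rw [show g⁻¹ * a⁻¹ * g = (g⁻¹ * a * g)⁻¹ by group]
    exact inv_mem iha

theorem shape_commute_mk {M : Subgroup P} [M.Normal] {a b : P} (h : ⁅a, b⁆ ∈ M) :
    Commute (QuotientGroup.mk' M a) (QuotientGroup.mk' M b) :=
  commutatorElement_eq_one_iff_mul_comm.mp (by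
    rw [← map_commutatorElement]; exact (QuotientGroup.eq_one_iff _).mpr h)

theorem card_sup_le_of_normal [Finite P] {x : P} (hx : x ^ p = 1) (V : Subgroup P) [V.Normal]
    (htop : Subgroup.zpowers x ⊔ V = ⊤) : Nat.card P ≤ p * Nat.card V := by
  have h1 := SelfCent.card_sup_dvd_mul (Subgroup.zpowers x) V
  rw [htop, Subgroup.card_top, Nat.card_zpowers] at h1
  exact (Nat.le_of_dvd (Nat.mul_pos (orderOf_pos x) Nat.card_pos) h1).trans
    (Nat.mul_le_mul_right _ (Nat.le_of_dvd hp.out.pos (orderOf_dvd_of_pow_eq_one hx)))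

theorem card_closure_pair_le [Finite P] {y v : P} (hy : y ^ p = 1) (hv : Commute y v) :
    Nat.card ↥(Subgroup.closure ({y, v} : Set P)) ≤ p * orderOf v := by
  have hsurj : Function.Surjective
      (fun w : Subgroup.zpowers y × Subgroup.zpowers v =>
        (⟨(w.1 : P) * w.2, mul_mem
          (Subgroup.zpowers_le.mpr (Subgroup.subset_closure (show y ∈ ({y, v} : Set P) from Or.inl rfl)) w.1.2)
          (Subgroup.zpowers_le.mpr (Subgroup.subset_closure (show v ∈ ({y, v} : Set P) from Or.inr rfl)) w.2.2)⟩ :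
          ↥(Subgroup.closure ({y, v} : Set P)))) := by
    rintro ⟨w, hw⟩
    suffices ∃ i j : ℤ, w = y ^ i * v ^ j by
      obtain ⟨i, j, rfl⟩ := this
      exact ⟨(⟨y ^ i, Subgroup.zpow_mem_zpowers y i⟩, ⟨v ^ j, Subgroup.zpow_mem_zpowers v j⟩), rfl⟩
    induction hw using Subgroup.closure_induction with
    | mem b hb =>
      rcases hb with hb | hb
      · exact ⟨1, 0, by rw [hb]; simp⟩
      · exact ⟨0, 1, by rw [Set.mem_singleton_iff.mp hb]; simp⟩
    | one => exact ⟨0, 0, by simp⟩
    | mul a b _ _ ha hb =>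
      obtain ⟨i, j, rfl⟩ := ha
      obtain ⟨i', j', rfl⟩ := hb
      refine ⟨i + i', j + j', ?_⟩
      rw [zpow_add, zpow_add]
      exact ((hv.symm.zpow_zpow j i').mul_mul_mul_comm _ _)
    | inv a _ ha =>
      obtain ⟨i, j, rfl⟩ := ha
      exact ⟨-i, -j, by rw [mul_inv_rev, zpow_neg, zpow_neg, ((hv.zpow_zpow i j).inv_inv).eq]⟩
  refine (Nat.card_le_card_of_surjective _ hsurj).trans ?_
  rw [Nat.card_prod, Nat.card_zpowers, Nat.card_zpowers]
  exact Nat.mul_le_mul_right _ (Nat.le_of_dvd hp.out.pos (orderOf_dvd_of_pow_eq_one hy))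

/-- The two shapes: no wreath quotient, and an abelian quotient in which the class of `z` is
nontrivial and fixed by the automorphisms fixing `Y`. -/
theorem shape_quotient [Finite P] (hp2 : p ≠ 2) (hP : IsPGroup p P) (hrk : Cfsg.PRankLE p 2 P)
    (hna : ¬ ∀ a b : P, a * b = b * a) {Y : P} (hY : Y ≠ 1) (hYp : Y ^ p = 1)
    (hYc : Y ∈ Subgroup.center P) {m : ℕ} (hm : 1 ≤ m) (hcard : Nat.card P = p ^ (m + 3))
    (r e : ℕ) (he : e = 0 ∨ e = 1) {x y z : P}
    (hgen : Subgroup.closure {x, y, z} = ⊤) (hx : x ^ p = 1) (hy : y ^ p = 1)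
    (hz : z ^ p ^ (m + 1) = 1) (hyz : Commute y z)
    (hxy : x⁻¹ * y * x = y * z ^ (r * p ^ m)) (hxz : x⁻¹ * z * x = y ^ e * z) :
    NoWreath p P ∧ ∃ K : Subgroup P, commutator P ≤ K ∧ z ∉ K ∧
      ∀ σ : MulAut P, σ Y = Y → (σ z)⁻¹ * z ∈ K := by
  classical
  have hpp := hp.out
  set t : P := z ^ p ^ m with ht
  have conjpow : ∀ (g u : P) (i : ℕ), g⁻¹ * u ^ i * g = (g⁻¹ * u * g) ^ i := by
    intro g u i
    have := conj_pow (a := g⁻¹) (b := u) (i := i)
    rw [inv_inv] at this
    exact this.symm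
  have hfix : ∀ {a b : P}, Commute a b → a⁻¹ * b * a = b := fun h => by
    rw [mul_assoc, h.symm.eq, inv_mul_cancel_left]
  have hye : ∀ i : ℕ, p ∣ i → (y ^ e) ^ i = 1 := fun i hi => by
    rw [← pow_mul, orderOf_dvd_iff_pow_eq_one.1
      ((orderOf_dvd_of_pow_eq_one hy).trans (hi.mul_left e))]
  have hm0 : p ∣ p ^ m := dvd_pow_self p (by omega)
  -- the abelian normal subgroup `⟨y, z⟩`
  set B : Subgroup P := Subgroup.closure {y, z} with hB
  haveI hBc : IsMulCommutative B := Subgroup.isMulCommutative_closure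
    (forall_pair (q := fun a => ∀ b ∈ ({y, z} : Set P), a * b = b * a)
      (forall_pair (q := fun b => y * b = b * y) rfl hyz.eq)
      (forall_pair (q := fun b => z * b = b * z) hyz.symm.eq rfl))
  have hyB : y ∈ B := Subgroup.subset_closure (Or.inl rfl)
  have hzB : z ∈ B := Subgroup.subset_closure (Or.inr rfl)
  haveI hBn : B.Normal := normal_closure_of_gen hgen (forall_triple
    (q := fun g => ∀ u ∈ ({y, z} : Set P), g⁻¹ * u * g ∈ B)
    (forall_pair (q := fun u => x⁻¹ * u * x ∈ B)
      (by rw [hxy]; exact mul_mem hyB (pow_mem hzB _))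
      (by rw [hxz]; exact mul_mem (pow_mem hyB _) hzB))
    (forall_pair (q := fun u => y⁻¹ * u * y ∈ B)
      (by rw [hfix (Commute.refl y)]; exact hyB) (by rw [hfix hyz]; exact hzB))
    (forall_pair (q := fun u => z⁻¹ * u * z ∈ B)
      (by rw [hfix hyz.symm]; exact hyB) (by rw [hfix (Commute.refl z)]; exact hzB)))
  have hBtop : Subgroup.zpowers x ⊔ B = ⊤ := by
    rw [eq_top_iff, ← hgen]
    exact closure_triple_le (le_sup_left (b := B) (Subgroup.mem_zpowers x))
      (le_sup_right (a := Subgroup.zpowers x) hyB) (le_sup_right (a := Subgroup.zpowers x) hzB)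
  -- counting
  have hBbig : p ^ (m + 2) ≤ Nat.card B := by
    have := card_sup_le_of_normal hx B hBtop
    rw [hcard, show m + 3 = (m + 2) + 1 by omega, pow_succ, mul_comm] at this
    exact Nat.le_of_mul_le_mul_left this hpp.pos
  have ht1 : t ≠ 1 := by
    intro h
    have h1 : orderOf z ≤ p ^ m :=
      Nat.le_of_dvd (pow_pos hpp.pos _) (orderOf_dvd_of_pow_eq_one h)
    have h2 := hBbig.trans ((card_closure_pair_le hy hyz).trans (Nat.mul_le_mul_left _ h1))
    rw [← pow_succ'] at h2
    have := (Nat.pow_le_pow_iff_right hpp.one_lt).1 h2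
    omega
  have hynz : y ∉ Subgroup.zpowers z := by
    intro h
    have h1 := Subgroup.card_le_of_le
      (closure_pair_le h (Subgroup.mem_zpowers z) : B ≤ Subgroup.zpowers z)
    rw [Nat.card_zpowers] at h1
    have h2 := hBbig.trans
      (h1.trans (Nat.le_of_dvd (pow_pos hpp.pos _) (orderOf_dvd_of_pow_eq_one hz)))
    have := (Nat.pow_le_pow_iff_right hpp.one_lt).1 h2
    omega
  have htp : t ^ p = 1 := by rw [ht, ← pow_mul, ← pow_succ, hz]
  have hord : orderOf t = p := orderOf_eq_prime htp ht1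
  have hxt : x⁻¹ * t * x = t := by
    rw [ht, conjpow, hxz, (hyz.pow_left e).mul_pow, hye _ hm0, one_mul]
  have hxt' : Commute x t := by
    rw [mul_assoc, inv_mul_eq_iff_eq_mul] at hxt
    exact hxt.symm
  have htc : t ∈ Subgroup.center P := mem_center_of_gen hgen
    (forall_triple (q := fun s => Commute s t) hxt' (hyz.pow_right _) (Commute.self_pow z _))
  -- central elements of order `p`
  have hcen : ∀ c ∈ Subgroup.center P, c ^ p = 1 → c ∈ Subgroup.zpowers Y := by
    intro c hc hcp
    by_contra hcY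
    have hE : ∀ w : P, w ^ p = 1 → w ∈ Subgroup.center P := fun w hw =>
      closure_pair_le hc hYc (mem_closure_pair_of_rankTwo hrk hcp hYp hw
        (Subgroup.mem_center_iff.mp hYc c) (Subgroup.mem_center_iff.mp hc w).symm
        (Subgroup.mem_center_iff.mp hYc w).symm hY hcY)
    have hzc : z ∈ Subgroup.center P := mem_center_of_gen hgen
      (forall_triple (q := fun s => Commute s z)
        (Subgroup.mem_center_iff.mp (hE x hx) z).symm hyz (Commute.refl z))
    have hall : (⊤ : Subgroup P) ≤ Subgroup.center P := by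
      rw [← hgen]; exact closure_triple_le (hE x hx) (hE y hy) hzc
    exact hna fun a b => Subgroup.mem_center_iff.mp (hall (Subgroup.mem_top b)) a
  set T : Subgroup P := Subgroup.zpowers Y with hT
  have htY : t ∈ T := hcen t htc htp
  have hTt : Subgroup.zpowers t = T :=
    Subgroup.eq_of_le_of_card_ge (Subgroup.zpowers_le.mpr htY)
      (by rw [hT, Nat.card_zpowers, Nat.card_zpowers, hord, orderOf_eq_prime hYp hY])
  have hYz : T ≤ Subgroup.zpowers z := by
    rw [← hTt, Subgroup.zpowers_le]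
    exact pow_mem (Subgroup.mem_zpowers z) _
  have hync : y ∉ Subgroup.center P := fun h => hynz (hYz (hcen y h hy))
  have hnxy : ¬ Commute x y := fun h => hync (mem_center_of_gen hgen
    (forall_triple (q := fun s => Commute s y) h (Commute.refl y) hyz.symm))
  have hCy : ∀ w : P, Commute w y → w ∈ B := by
    intro w hw
    obtain ⟨a, ha, b, hb, rfl⟩ := Subgroup.mem_sup_of_normal_right.mp
      (hBtop ▸ Subgroup.mem_top w : w ∈ Subgroup.zpowers x ⊔ B)
    obtain ⟨i, rfl⟩ := Subgroup.mem_zpowers_iff.mp ha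
    have hby : Commute b y := congrArg Subtype.val (hBc.is_comm.comm ⟨b, hb⟩ ⟨y, hyB⟩)
    have hxi : Commute (x ^ i) y := by simpa using hw.mul_left hby.inv_left
    by_cases hdvd : (p : ℤ) ∣ i
    · obtain ⟨q, rfl⟩ := hdvd
      rw [zpow_mul, zpow_natCast, hx, one_zpow, one_mul]
      exact hb
    · exfalso
      obtain ⟨u, v, huv⟩ :=
        ((Nat.prime_iff_prime_int.mp hpp).coprime_iff_not_dvd.mpr hdvd).symm
      refine hnxy ?_
      have hxu := hxi.zpow_left u
      rwa [← zpow_mul, show i * u = 1 - (p : ℤ) * v by rw [← huv]; ring, zpow_sub, zpow_one,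
        zpow_mul, zpow_natCast, hx, one_zpow, inv_one, mul_one] at hxu
  -- commutators
  haveI hTn : T.Normal := ⟨fun a ha g => by
    rwa [Subgroup.mem_center_iff.mp (Subgroup.zpowers_le.mpr hYc ha) g, mul_inv_cancel_right]⟩
  have hrt : z ^ (r * p ^ m) ∈ T := by
    rw [mul_comm, pow_mul]; exact pow_mem htY _
  have hxyc : ⁅x⁻¹, y⁆ = z ^ (r * p ^ m) := by
    rw [commutatorElement_def, inv_inv, hxy, (hyz.pow_right (r * p ^ m)).eq, mul_inv_cancel_right]
  have hxzc : ⁅x⁻¹, z⁆ = y ^ e := by
    rw [commutatorElement_def, inv_inv, hxz, mul_inv_cancel_right]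
  have comm_gen : ∀ (M : Subgroup P), M.Normal → z ^ (r * p ^ m) ∈ M → y ^ e ∈ M →
      commutator P ≤ M := by
    intro M hM h1 h2
    haveI := hM
    have cxy : Commute (QuotientGroup.mk' M x) (QuotientGroup.mk' M y) := by
      have h := shape_commute_mk (hxyc ▸ h1 : ⁅x⁻¹, y⁆ ∈ M)
      rw [map_inv] at h
      exact Commute.inv_left_iff.mp h
    have cxz : Commute (QuotientGroup.mk' M x) (QuotientGroup.mk' M z) := by
      have h := shape_commute_mk (hxzc ▸ h2 : ⁅x⁻¹, z⁆ ∈ M)
      rw [map_inv] at h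
      exact Commute.inv_left_iff.mp h
    have cyz := hyz.map (QuotientGroup.mk' M)
    exact commutator_le_of_gen hgen M (forall_triple
      (q := fun a => ∀ b ∈ ({x, y, z} : Set P),
        Commute (QuotientGroup.mk' M a) (QuotientGroup.mk' M b))
      (forall_triple (q := fun b => Commute (QuotientGroup.mk' M x) (QuotientGroup.mk' M b))
        (Commute.refl _) cxy cxz)
      (forall_triple (q := fun b => Commute (QuotientGroup.mk' M y) (QuotientGroup.mk' M b))
        cxy.symm (Commute.refl _) cyz)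
      (forall_triple (q := fun b => Commute (QuotientGroup.mk' M z) (QuotientGroup.mk' M b))
        cxz.symm cyz.symm (Commute.refl _)))
  set Z2 : Subgroup P := (Subgroup.center (P ⧸ T)).comap (QuotientGroup.mk' T) with hZ2
  have hyZ2 : y ∈ Z2 := by
    have hgen' : Subgroup.closure (QuotientGroup.mk' T '' {x, y, z}) = ⊤ := by
      rw [← MonoidHom.map_closure, hgen,
        Subgroup.map_top_of_surjective _ (QuotientGroup.mk'_surjective T)]
    refine mem_center_of_gen hgen' (Set.forall_mem_image.mpr ?_)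
    refine forall_triple (q := fun s => Commute (QuotientGroup.mk' T s) (QuotientGroup.mk' T y))
      ?_ (Commute.refl _) (hyz.symm.map _)
    have h := shape_commute_mk (hxyc ▸ hrt : ⁅x⁻¹, y⁆ ∈ T)
    rw [map_inv] at h
    exact Commute.inv_left_iff.mp h
  have hTZ2 : T ≤ Z2 := fun g hg => by
    rw [hZ2, Subgroup.mem_comap, QuotientGroup.mk'_apply, (QuotientGroup.eq_one_iff g).mpr hg]
    exact one_mem _
  have hcZ2 : commutator P ≤ Z2 := comm_gen Z2 inferInstance (hTZ2 hrt) (pow_mem hyZ2 e)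
  have hcB : commutator P ≤ B := comm_gen B hBn (pow_mem hzB _) (pow_mem hyB e)
  have hclass : (⊤ : Subgroup P).lowerCentralSeries 2 ≤ T := by
    rw [Subgroup.lowerCentralSeries_succ, Subgroup.commutator_le]
    intro a ha b _
    have ha' : a ∈ commutator P := by rwa [Subgroup.top_lowerCentralSeries_one] at ha
    have h1 := Subgroup.mem_center_iff.mp (hcZ2 ha') (QuotientGroup.mk' T b)
    rw [← QuotientGroup.eq_one_iff (N := T), ← QuotientGroup.mk'_apply, map_commutatorElement,
      commutatorElement_eq_one_iff_mul_comm]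
    exact h1.symm
  refine ⟨noWreath_of_map fun W f hf hne => hne ?_, ?_⟩
  · have h2 := hpp.two_le
    rw [Subgroup.map_eq_bot_iff]
    refine ((⊤ : Subgroup P).lowerCentralSeries_antitone (show 2 ≤ p - 1 by omega)).trans
      (hclass.trans ?_)
    have hker : f.ker ≠ ⊥ := fun hk =>
      noWreath_rankTwo_injective hp2 hrk W f ⟨(MonoidHom.ker_eq_bot_iff f).mp hk, hf⟩
    haveI := hP.isNilpotent
    obtain ⟨k, hk⟩ := IsPGroup.iff_card.mp (hP.to_subgroup (f.ker ⊓ Subgroup.center P))
    have hk0 : k ≠ 0 := fun h => Critical.inf_center_ne_bot f.ker hker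
      (Subgroup.eq_bot_of_card_eq _ (by rw [hk, h, pow_zero]))
    obtain ⟨w, hw⟩ := exists_prime_orderOf_dvd_card' (G := ↥(f.ker ⊓ Subgroup.center P)) p
      (hk ▸ dvd_pow_self p hk0)
    have hwY : (w : P) ∈ T :=
      hcen w w.2.2 (orderOf_dvd_iff_pow_eq_one.mp (by rw [Subgroup.orderOf_coe, hw]))
    have heq : Subgroup.zpowers (w : P) = T :=
      Subgroup.eq_of_le_of_card_ge (Subgroup.zpowers_le.mpr hwY)
        (by rw [hT, Nat.card_zpowers, Nat.card_zpowers, Subgroup.orderOf_coe, hw,
          orderOf_eq_prime hYp hY])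
    rw [← heq]
    exact Subgroup.zpowers_le.mpr w.2.1
  -- the quotient by `⟨x, y, z ^ p⟩`
  set K : Subgroup P := Subgroup.closure {x, y, z ^ p} with hK
  have hxK : x ∈ K := Subgroup.subset_closure (Or.inl rfl)
  have hyK : y ∈ K := Subgroup.subset_closure (Or.inr (Or.inl rfl))
  have hzK : z ^ p ∈ K := Subgroup.subset_closure (Or.inr (Or.inr rfl))
  have hrzp : z ^ (r * p ^ m) ∈ Subgroup.zpowers (z ^ p) := by
    have h : z ^ (r * p ^ m) = (z ^ p) ^ (r * p ^ (m - 1)) := by
      rw [← pow_mul, mul_left_comm, ← pow_succ', Nat.sub_add_cancel hm]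
    rw [h]
    exact pow_mem (Subgroup.mem_zpowers _) _
  have hrK : z ^ (r * p ^ m) ∈ K := Subgroup.zpowers_le.mpr hzK hrzp
  have hzp : x⁻¹ * z ^ p * x = z ^ p := by
    rw [conjpow, hxz, (hyz.pow_left e).mul_pow, hye _ dvd_rfl, one_mul]
  have hzxc : z⁻¹ * x * z = x * (y ^ e)⁻¹ := by
    have h2 : z * x = x * (y ^ e * z) := by rw [← hxz]; group
    rw [eq_mul_inv_iff_mul_eq, mul_assoc, (hyz.pow_left e).symm.eq, mul_assoc, ← h2,
      inv_mul_cancel_left]
  haveI hKn : K.Normal := normal_closure_of_gen hgen (forall_triple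
    (q := fun g => ∀ u ∈ ({x, y, z ^ p} : Set P), g⁻¹ * u * g ∈ K)
    (forall_triple (q := fun u => x⁻¹ * u * x ∈ K)
      (by rw [hfix (Commute.refl x)]; exact hxK)
      (by rw [hxy]; exact mul_mem hyK hrK)
      (by rw [hzp]; exact hzK))
    (forall_triple (q := fun u => y⁻¹ * u * y ∈ K)
      (mul_mem (mul_mem (inv_mem hyK) hxK) hyK)
      (by rw [hfix (Commute.refl y)]; exact hyK)
      (by rw [hfix (hyz.pow_right p)]; exact hzK))
    (forall_triple (q := fun u => z⁻¹ * u * z ∈ K)
      (by rw [hzxc]; exact mul_mem hxK (inv_mem (pow_mem hyK e)))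
      (by rw [hfix hyz.symm]; exact hyK)
      (by rw [hfix (Commute.self_pow z p)]; exact hzK)))
  refine ⟨K, comm_gen K hKn hrK (pow_mem hyK e), ?_, ?_⟩
  · intro hzin
    set V : Subgroup P := Subgroup.closure ({y, z ^ p} : Set P) with hV
    have hyV : y ∈ V := Subgroup.subset_closure (Or.inl rfl)
    have hzV : z ^ p ∈ V := Subgroup.subset_closure (Or.inr rfl)
    haveI hVn : V.Normal := normal_closure_of_gen hgen (forall_triple
      (q := fun g => ∀ u ∈ ({y, z ^ p} : Set P), g⁻¹ * u * g ∈ V)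
      (forall_pair (q := fun u => x⁻¹ * u * x ∈ V)
        (by rw [hxy]; exact mul_mem hyV (Subgroup.zpowers_le.mpr hzV hrzp))
        (by rw [hzp]; exact hzV))
      (forall_pair (q := fun u => y⁻¹ * u * y ∈ V)
        (by rw [hfix (Commute.refl y)]; exact hyV) (by rw [hfix (hyz.pow_right p)]; exact hzV))
      (forall_pair (q := fun u => z⁻¹ * u * z ∈ V)
        (by rw [hfix hyz.symm]; exact hyV) (by rw [hfix (Commute.self_pow z p)]; exact hzV)))
    have htop : Subgroup.zpowers x ⊔ V = ⊤ := by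
      have hKle : K ≤ Subgroup.zpowers x ⊔ V :=
        closure_triple_le (le_sup_left (b := V) (Subgroup.mem_zpowers x))
          (le_sup_right (a := Subgroup.zpowers x) hyV) (le_sup_right (a := Subgroup.zpowers x) hzV)
      refine top_le_iff.mp (le_trans ?_ hKle)
      rw [← hgen]
      exact closure_triple_le hxK hyK hzin
    have h2 : orderOf (z ^ p) ≤ p ^ m :=
      Nat.le_of_dvd (pow_pos hpp.pos _) (orderOf_dvd_of_pow_eq_one (by
        rw [← pow_mul, ← pow_succ', hz]))
    have h3 : p ^ (m + 3) ≤ p * (p * p ^ m) := hcard ▸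
      (card_sup_le_of_normal hx V htop).trans (Nat.mul_le_mul_left _
        ((card_closure_pair_le hy (hyz.pow_right p)).trans (Nat.mul_le_mul_left _ h2)))
    rw [← pow_succ', ← pow_succ'] at h3
    have := (Nat.pow_le_pow_iff_right hpp.one_lt).1 h3
    omega
  intro σ hσY
  have hσt : σ t = t := by
    obtain ⟨i, hi⟩ := Subgroup.mem_zpowers_iff.mp htY
    rw [← hi, map_zpow, hσY]
  have hzy : Commute (σ z) y := by
    suffices h : Commute z (σ.symm y) by
      rw [← σ.apply_symm_apply y]
      exact h.map σ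
    rcases he with rfl | rfl
    · rw [pow_zero, one_mul] at hxz
      have hxz' : Commute x z := by
        rw [mul_assoc, inv_mul_eq_iff_eq_mul] at hxz
        exact hxz.symm
      have hzc : z ∈ Subgroup.center P := mem_center_of_gen hgen
        (forall_triple (q := fun s => Commute s z) hxz' hyz (Commute.refl z))
      exact (Subgroup.mem_center_iff.mp hzc (σ.symm y)).symm
    · have hyc : y ∈ commutator P := by
        rw [pow_one] at hxzc
        rw [← hxzc]
        exact Subgroup.commutator_mem_commutator (Subgroup.mem_top _) (Subgroup.mem_top _)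
      have hy' : σ.symm y ∈ commutator P := by
        have h1 := Subgroup.mem_map_of_mem σ.symm.toMonoidHom hyc
        rw [map_commutator_eq] at h1
        exact Subgroup.commutator_mono le_top le_top h1
      exact congrArg Subtype.val (hBc.is_comm.comm ⟨z, hzB⟩ ⟨_, hcB hy'⟩)
  -- `σ z = y ^ i * z ^ j`
  obtain ⟨i, j, hij⟩ : ∃ i j : ℤ, σ z = y ^ i * z ^ j := by
    have h := hCy _ hzy
    generalize σ z = w at h
    induction h using Subgroup.closure_induction with
    | mem b hb =>
      rcases hb with hb | hb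
      · exact ⟨1, 0, by rw [hb]; simp⟩
      · exact ⟨0, 1, by rw [Set.mem_singleton_iff.mp hb]; simp⟩
    | one => exact ⟨0, 0, by simp⟩
    | mul a b _ _ ha hb =>
      obtain ⟨i, j, rfl⟩ := ha
      obtain ⟨i', j', rfl⟩ := hb
      refine ⟨i + i', j + j', ?_⟩
      rw [zpow_add, zpow_add]
      exact ((hyz.symm.zpow_zpow j i').mul_mul_mul_comm _ _)
    | inv a _ ha =>
      obtain ⟨i, j, rfl⟩ := ha
      exact ⟨-i, -j, by rw [mul_inv_rev, zpow_neg, zpow_neg, ((hyz.zpow_zpow i j).inv_inv).eq]⟩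
  have hj : t ^ j = t := by
    have h1 : (σ z) ^ p ^ m = t := by rw [← map_pow, ← ht, hσt]
    rw [hij, (hyz.zpow_zpow i j).mul_pow] at h1
    have h2 : (y ^ i) ^ p ^ m = 1 := by
      rw [← zpow_natCast (y ^ i), ← zpow_mul, mul_comm, zpow_mul, zpow_natCast,
        orderOf_dvd_iff_pow_eq_one.1 ((orderOf_dvd_of_pow_eq_one hy).trans hm0), one_zpow]
    rw [h2, one_mul, ← zpow_natCast (z ^ j), ← zpow_mul, mul_comm, zpow_mul, zpow_natCast] at h1
    exact h1
  obtain ⟨q, hq⟩ : (p : ℤ) ∣ j - 1 := by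
    rw [← hord, orderOf_dvd_iff_zpow_eq_one, zpow_sub, zpow_one, hj, mul_inv_cancel]
  rw [hij, show j = (p : ℤ) * q + 1 by omega, zpow_add, zpow_one, zpow_mul, zpow_natCast,
    mul_inv_rev, mul_inv_rev,
    show z⁻¹ * ((z ^ p) ^ q)⁻¹ * (y ^ i)⁻¹ * z = ((z ^ p) ^ q)⁻¹ * (y ^ i)⁻¹ by
      rw [mul_assoc, ((hyz.zpow_left i).inv_left).eq, ← mul_assoc, mul_assoc z⁻¹,
        (((Commute.self_pow z p).zpow_right q).inv_right).symm.eq, inv_mul_cancel_left]]
  exact mul_mem (inv_mem (zpow_mem hzK q)) (inv_mem (zpow_mem hyK i))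

end RankTwo

variable {L : Type*} [Group L] [Finite L]

/-- The conjugation of a Sylow subgroup by an element of its normalizer. -/
noncomputable def normConj (P : Sylow p L) {n : L}
    (hn : n ∈ Subgroup.normalizer ((P : Subgroup L) : Set L)) : MulAut ↥(P : Subgroup L) :=
  (P : Subgroup L).normalizerMonoidHom ⟨n, hn⟩

theorem normConj_apply (P : Sylow p L) {n : L}
    (hn : n ∈ Subgroup.normalizer ((P : Subgroup L) : Set L)) (b : ↥(P : Subgroup L)) :
    (normConj P hn b : L) = n * b * n⁻¹ := rfl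

/-- The abelian case. -/
theorem false_of_abelian (hp2 : p ≠ 2) (hL : commutator L = ⊤) (P : Sylow p L)
    (hab : ∀ a b : ↥(P : Subgroup L), a * b = b * a) (Y : ↥(P : Subgroup L)) (hY : Y ≠ 1)
    (hYN : ∀ g ∈ Subgroup.normalizer ((P : Subgroup L) : Set L), g * (Y : L) * g⁻¹ = Y) : False := by
  letI : CommGroup ↥(P : Subgroup L) :=
    { (inferInstance : Group ↥(P : Subgroup L)) with mul_comm := hab }
  exact hY (eq_one_of_fixed hL P (noWreath_of_comm hp2 hab) (MonoidHom.id _) Y fun n hn b hb =>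
    Subtype.ext (hb.trans (hYN n hn)))

/-- The metacyclic case. -/
theorem false_of_metacyclic (hp2 : p ≠ 2) (hL : commutator L = ⊤) (P : Sylow p L)
    (hm : Cfsg.IsMetacyclic ↥(P : Subgroup L))
    (hna : ¬ ∀ a b : ↥(P : Subgroup L), a * b = b * a) : False := by
  classical
  set N := Subgroup.normalizer ((P : Subgroup L) : Set L) with hN
  have hPN : (P : Subgroup L) ≤ N := Subgroup.le_normalizer
  set H : Subgroup N := (P : Subgroup L).subgroupOf N with hH
  haveI hHn : H.Normal := Subgroup.normal_in_normalizer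
  have hHp : IsPGroup p H := P.2.of_equiv (Subgroup.subgroupOfEquivOfLe hPN).symm
  obtain ⟨k, hk⟩ := IsPGroup.iff_card.mp hHp
  have hcop0 : H.index.Coprime p := (hp.out.coprime_iff_not_dvd.mpr fun hd =>
    P.not_dvd_index (hd.trans ⟨_, (Subgroup.relIndex_mul_index hPN).symm⟩)).symm
  obtain ⟨C, hC⟩ := Subgroup.exists_right_complement'_of_coprime (N := H)
    (by rw [hk]; exact (hcop0.pow_right k).symm)
  set A : Subgroup L := C.map N.subtype with hA
  have hAN : A ≤ Subgroup.normalizer ((P : Subgroup L) : Set L) := Subgroup.map_subtype_le C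
  have hAcop : (Nat.card A).Coprime p := by
    rw [hA, Subgroup.card_map_of_injective N.subtype_injective,
      ← (Subgroup.IsComplement'.index_eq_card hC.symm)]
    exact hcop0
  obtain ⟨hTab, -, -, -⟩ := Cfsg.Agent.S1447.result p hp2 (P : Subgroup L) A P.2 hm hAN hAcop
  set R := (P : Subgroup L) with hR
  set T : Subgroup ↥R := ⁅R, A⁆.subgroupOf R with hT
  have hcomm : commutator ↥R ≤ frattini ↥R := (PSolvable.commutator_le_frattini P.2).1
  set K : Subgroup ↥R := T ⊔ frattini ↥R with hK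
  haveI : K.Normal := Subgroup.Normal.of_commutator_le (h := hcomm.trans le_sup_right)
  have hKne : K ≠ ⊤ := fun e => by
    have hTtop : T = ⊤ := frattini_nongenerating e
    refine hna fun a b => Subtype.ext ?_
    have ha : (a : L) ∈ ⁅R, A⁆ := (hTtop ▸ Subgroup.mem_top a : a ∈ T)
    have hb : (b : L) ∈ ⁅R, A⁆ := (hTtop ▸ Subgroup.mem_top b : b ∈ T)
    have h1 := congrArg Subtype.val
      (hTab.is_comm.comm (⟨_, ha⟩ : ↥⁅R, A⁆) ⟨_, hb⟩)
    exact h1
  obtain ⟨a, ha⟩ : ∃ a : ↥R, a ∉ K := by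
    by_contra h
    push Not at h
    exact hKne ((Subgroup.eq_top_iff' K).mpr h)
  letI : CommGroup (↥R ⧸ K) :=
    { (inferInstance : Group (↥R ⧸ K)) with
      mul_comm := fun u v => by
        induction u using QuotientGroup.induction_on with | H u =>
        induction v using QuotientGroup.induction_on with | H v =>
        refine commutatorElement_eq_one_iff_mul_comm.mp ?_
        rw [← QuotientGroup.mk'_apply, ← QuotientGroup.mk'_apply, ← map_commutatorElement]
        exact (QuotientGroup.eq_one_iff _).mpr (le_sup_right (a := T) (hcomm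
          (Subgroup.commutator_mem_commutator (Subgroup.mem_top u) (Subgroup.mem_top v)))) }
  refine ha ((QuotientGroup.eq_one_iff a).mp
    (eq_one_of_fixed hL P (noWreath_of_metacyclic hp2 hm) (QuotientGroup.mk' K) a fun n hn b hb => ?_))
  obtain ⟨⟨⟨h, hh⟩, ⟨c, hc⟩⟩, hhc⟩ := hC.2 (⟨n, hn⟩ : N)
  have hn' : n = (h : L) * (c : L) := (congrArg Subtype.val hhc).symm
  have hcA : (c : L) ∈ A := ⟨c, hc, rfl⟩
  have hca : (c : L) * a * (c : L)⁻¹ ∈ R := (Subgroup.mem_normalizer_iff.mp c.2 _).mp a.2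
  set a' : ↥R := ⟨(c : L) * a * (c : L)⁻¹, hca⟩ with ha'
  set h' : ↥R := ⟨(h : L), hh⟩ with hh'
  have hb' : b = h' * a' * h'⁻¹ := Subtype.ext (by
    rw [hb, hn']; simp [ha', hh', mul_assoc])
  have hmem : a * a'⁻¹ ∈ T := by
    show ((a * a'⁻¹ : ↥R) : L) ∈ ⁅R, A⁆
    have := Subgroup.commutator_mem_commutator a.2 hcA
    convert this using 1
    simp [ha', commutatorElement_def, mul_assoc]
  have h1 : (QuotientGroup.mk' K) a = (QuotientGroup.mk' K) a' := by
    have h2 : (QuotientGroup.mk' K) (a * a'⁻¹) = 1 :=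
      (QuotientGroup.eq_one_iff _).mpr (le_sup_left (b := frattini ↥R) hmem)
    rwa [map_mul, map_inv, mul_inv_eq_one] at h2
  rw [hb', map_mul, map_mul, map_inv, mul_inv_cancel_comm, h1]

/-- The two shapes of rank two. -/
theorem false_of_shape (hp2 : p ≠ 2) (hL : commutator L = ⊤) (P : Sylow p L)
    (hrk : Cfsg.PRankLE p 2 ↥(P : Subgroup L))
    (hna : ¬ ∀ a b : ↥(P : Subgroup L), a * b = b * a)
    (Y : ↥(P : Subgroup L)) (hY : Y ≠ 1) (hYp : Y ^ p = 1)
    (hYc : Y ∈ Subgroup.center ↥(P : Subgroup L))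
    (hYN : ∀ g ∈ Subgroup.normalizer ((P : Subgroup L) : Set L), g * (Y : L) * g⁻¹ = Y)
    {m : ℕ} (hm : 1 ≤ m) (hcard : Nat.card ↥(P : Subgroup L) = p ^ (m + 3))
    (r e : ℕ) (he : e = 0 ∨ e = 1) (x y z : ↥(P : Subgroup L))
    (hgen : Subgroup.closure {x, y, z} = ⊤) (hx : x ^ p = 1) (hy : y ^ p = 1)
    (hz : z ^ p ^ (m + 1) = 1) (hyz : y * z = z * y)
    (hxy : x⁻¹ * y * x = y * z ^ (r * p ^ m)) (hxz : x⁻¹ * z * x = y ^ e * z) : False := by
  obtain ⟨hno, K, hcK, hzK, hσ⟩ :=
    shape_quotient hp2 P.2 hrk hna hY hYp hYc hm hcard r e he hgen hx hy hz hyz hxy hxz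
  haveI : K.Normal := Subgroup.Normal.of_commutator_le (h := hcK)
  letI : CommGroup (↥(P : Subgroup L) ⧸ K) :=
    { (inferInstance : Group (↥(P : Subgroup L) ⧸ K)) with
      mul_comm := fun u v => by
        induction u using QuotientGroup.induction_on with | H u =>
        induction v using QuotientGroup.induction_on with | H v =>
        exact shape_commute_mk (hcK
          (Subgroup.commutator_mem_commutator (Subgroup.mem_top u) (Subgroup.mem_top v))) }
  refine hzK ((QuotientGroup.eq_one_iff z).mp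
    (eq_one_of_fixed hL P hno (QuotientGroup.mk' K) z fun n hn b hb => ?_))
  obtain rfl : b = normConj P hn z := Subtype.ext hb
  exact QuotientGroup.eq.mpr (hσ _ (Subtype.ext (hYN n hn)))

end CfsgLib.IsolatedRankTwo
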