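import Cfsg.Agent.Lib.IsolatedRankTwo.Main
import Cfsg.Agent.Lib.IsolatedRankTwo.Shapes
import Cfsg.Agent.Lib.IsolatedRankTwo.MaxThree
import Cfsg.Agent.Lib.Fusion.SmallNonabelian
import Cfsg.Agent.Lib.PGroup.MaximalClass
import Cfsg.Agent.Lib.PGroup.RankTwoBlackburn
import Cfsg.Agent.Lib.BG.NarrowSylow
import Cfsg.Agent.Lib.ZStar.Recognize
import Cfsg.Agent.S3888

/-!
The Sylow `p`-subgroups of a perfect subgroup `F` of a group of `p`-rank at most two with an
isolated element `x` of order `p`.
-/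

set_option autoImplicit false
set_option linter.style.haveILetI false

namespace CfsgLib.IsolatedRankTwo

open Cfsg

variable {p : ℕ} [hp : Fact p.Prime]

theorem orderOf_conj_eq {G : Type*} [Group G] {x : G} (hx : orderOf x = p) (g : G) :
    orderOf (g * x * g⁻¹) = p := by
  refine orderOf_eq_prime ?_ ?_
  · rw [conj_pow, ← hx, pow_orderOf_eq_one, mul_one, mul_inv_cancel]
  · intro e
    rw [conj_eq_one_iff] at e
    rw [e, orderOf_one] at hx
    exact hp.out.ne_one hx.symm

/-- Case of no conjugate of `x` in `P`: the rank is one. -/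
theorem cyclic_of_no_conj {G : Type*} [Group G] [Finite G] (hp2 : p ≠ 2)
    (hrank : Cfsg.PRankLE p 2 G) {x : G} (hx : orderOf x = p) (hiso : IsIsolated x)
    {S : Subgroup G} (hS : IsPGroup p S) (hno : ∀ g : G, g * x * g⁻¹ ∉ S) : IsCyclic S := by
  have hxp : IsPGroup p (Subgroup.zpowers x) :=
    IsPGroup.of_card (n := 1) (by rw [Nat.card_zpowers, hx, pow_one])
  obtain ⟨g, T, hTp, hST, hgT⟩ := exists_conj_mem hxp hS
  set y := g * x * g⁻¹ with hy
  have hyo : orderOf y = p := orderOf_conj_eq hx g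
  have hyp : y ^ p = 1 := hyo ▸ pow_orderOf_eq_one y
  have hyc : ∀ s ∈ S, Commute s y := fun s hs =>
    commute_of_mem_pGroup (isIsolated_conj hiso g) hTp hgT (hST hs)
  refine ZStar.cyclic_of_unique_subgroup hp2 hS fun H K hH hK => ?_
  by_cases hbot : S = ⊥
  · exfalso
    haveI : Subsingleton S := hbot ▸ inferInstance
    have := Nat.card_le_card_of_injective _ H.subtype_injective
    rw [hH, Nat.card_unique] at this
    exact absurd this (not_le.mpr hp.out.one_lt)
  obtain ⟨k, hk⟩ := IsPGroup.iff_card.mp (hS.to_subgroup (Subgroup.center S))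
  haveI : Nontrivial S := (Subgroup.nontrivial_iff_ne_bot S).mpr hbot
  haveI := hS.center_nontrivial
  obtain ⟨w, hw⟩ := exists_prime_orderOf_dvd_card' (G := Subgroup.center S) p (by
    rw [hk]
    refine dvd_pow_self p fun h => ?_
    have := Finite.one_lt_card (α := Subgroup.center S)
    rw [hk, h, pow_zero] at this
    exact lt_irrefl 1 this)
  set z : G := ((w : S) : G) with hz
  have hzo : orderOf z = p := by rw [hz, Subgroup.orderOf_coe, Subgroup.orderOf_coe, hw]
  have key : ∀ H : Subgroup S, Nat.card H = p → H.map S.subtype = Subgroup.zpowers z := by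
    intro H hH
    refine Subgroup.eq_of_le_of_card_ge ?_
      (by rw [Nat.card_zpowers, hzo, Subgroup.card_subtype, hH])
    rintro _ ⟨u, hu, rfl⟩
    by_contra hne
    have hup : (u : G) ^ p = 1 := by
      have h1 := pow_card_eq_one' (x := (⟨u, hu⟩ : H))
      rw [hH] at h1
      exact congrArg (fun v : H => ((v : S) : G)) h1
    have huz : Commute (u : G) z :=
      congrArg Subtype.val (Subgroup.mem_center_iff.mp w.2 u)
    have hmem := mem_closure_pair_of_rankTwo hrank hup (hzo ▸ pow_orderOf_eq_one z) hyp huz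
      (hyc _ u.2) (hyc _ (w : S).2) (fun e => by
        rw [e, orderOf_one] at hzo; exact hp.out.ne_one hzo.symm) hne
    exact hno g (closure_pair_le u.2 (w : S).2 hmem)
  exact Subgroup.map_injective S.subtype_injective ((key H hH).trans (key K hK).symm)

/-- Case of a central element of order `p` fixed by the normalizer. -/
theorem structure_of_fixed {L : Type*} [Group L] [Finite L] (hp2 : p ≠ 2) (hL : commutator L = ⊤)
    (P : Sylow p L) (hrk : Cfsg.PRankLE p 2 ↥(P : Subgroup L))
    (Y : ↥(P : Subgroup L)) (hY : Y ≠ 1) (hYp : Y ^ p = 1)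
    (hYc : Y ∈ Subgroup.center ↥(P : Subgroup L))
    (hYN : ∀ g ∈ Subgroup.normalizer ((P : Subgroup L) : Set L), g * (Y : L) * g⁻¹ = Y) :
    (Cfsg.IsExtraspecial p ↥(P : Subgroup L) ∧ Nat.card (P : Subgroup L) = p ^ 3 ∧
        ∀ a ∈ (P : Subgroup L), a ^ p = 1) ∨
      (p = 3 ∧ ∃ k : ℕ, 2 ≤ k ∧ Nat.card (P : Subgroup L) = 3 ^ (2 * k + 1) ∧
        ∃ _ : Group.IsNilpotent ↥(P : Subgroup L),
          Group.nilpotencyClass ↥(P : Subgroup L) = 2 * k) := by
  have hpp := hp.out
  have hPp : IsPGroup p ↥(P : Subgroup L) := P.2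
  have hna : ¬ ∀ a b : ↥(P : Subgroup L), a * b = b * a := fun hab =>
    false_of_abelian hp2 hL P hab Y hY hYN
  obtain ⟨n, hn⟩ := IsPGroup.iff_card.mp hPp
  have hn3 : 3 ≤ n := by
    by_contra hlt
    refine hna ?_
    rcases Nat.lt_or_ge n 2 with h | h
    · rcases Nat.lt_or_ge n 1 with h' | h'
      · haveI : Subsingleton ↥(P : Subgroup L) :=
          (Nat.card_eq_one_iff_unique.1 (by rw [hn, show n = 0 by omega, pow_zero])).1
        exact fun a b => Subsingleton.elim _ _
      · haveI := isCyclic_of_prime_card (p := p)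
          (show Nat.card ↥(P : Subgroup L) = p by rw [hn, show n = 1 by omega, pow_one])
        letI := IsCyclic.commGroup (α := ↥(P : Subgroup L))
        exact fun a b => mul_comm a b
    · letI := IsPGroup.commGroupOfCardEqPrimeSq (p := p) (G := ↥(P : Subgroup L))
        (by rw [hn, show n = 2 by omega])
      exact fun a b => mul_comm a b
  rcases Nat.lt_or_ge n 4 with h4 | h4
  · obtain rfl : n = 3 := by omega
    left
    by_cases hexp : ∀ a : ↥(P : Subgroup L), a ^ p = 1
    · exact ⟨Fusion.SmallNonabelian.isExtraspecial_of_exp hn hna hexp, hn,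
        fun a ha => congrArg Subtype.val (hexp ⟨a, ha⟩)⟩
    · push Not at hexp
      obtain ⟨a, ha⟩ := hexp
      exact (false_of_metacyclic hp2 hL P (RankTwoBlackburn.isMetacyclic_cube hn ha) hna).elim
  obtain ⟨m, rfl⟩ : ∃ m, n = m + 3 := ⟨n - 3, by omega⟩
  rcases Cfsg.Agent.S3888.result hp2 (m + 3) hn hrk with hm | h | h | h
  · exact (false_of_metacyclic hp2 hL P hm hna).elim
  · obtain ⟨-, x, y, z, hgen, hx, hy, hz, hxz, hyz, hxy⟩ := h
    rw [show m + 3 - 2 = m + 1 by omega] at hz
    rw [show m + 3 - 3 = m by omega] at hxy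
    refine (false_of_shape hp2 hL P hrk hna Y hY hYp hYc hYN (by omega) hn 1 0 (Or.inl rfl)
      x y z hgen hx hy hz hyz (by rw [one_mul]; exact hxy) ?_).elim
    rw [pow_zero, one_mul, mul_assoc, ← hxz, inv_mul_cancel_left]
  · obtain ⟨-, s, x, y, z, -, hgen, hx, hy, hz, hyz, hxy, hxz⟩ := h
    rw [show m + 3 - 2 = m + 1 by omega] at hz
    rw [show m + 3 - 3 = m by omega] at hxy
    exact (false_of_shape hp2 hL P hrk hna Y hY hYp hYc hYN (by omega) hn s 1 (Or.inr rfl)
      x y z hgen hx hy hz hyz hxy (by rw [pow_one]; exact hxz)).elim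
  · obtain ⟨rfl, -, hne⟩ := h
    haveI hnil : Group.IsNilpotent ↥(P : Subgroup L) := hPp.isNilpotent
    have hcls : Group.nilpotencyClass ↥(P : Subgroup L) = m + 3 - 1 := by
      refine le_antisymm (Subgroup.lowerCentralSeries_eq_bot_iff_nilpotencyClass_le.mp ?_) ?_
      · have h1 := MaxClass.card_lcs_succ_le hn (m + 1)
        rw [show m + 3 - 2 - (m + 1) = 0 by omega, pow_zero] at h1
        exact Subgroup.eq_bot_of_card_le _ h1
      · by_contra hlt
        exact hne (Subgroup.lowerCentralSeries_eq_bot_iff_nilpotencyClass_le.mpr (by omega))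
    rcases Nat.even_or_odd (m + 3) with hev | ⟨k, hk⟩
    · exact (false_of_maxClass_even hL P hrk ⟨hn, hcls, by omega⟩ h4 hev Y hY hYc hYN).elim
    · exact Or.inr ⟨rfl, k, by omega, by rw [hn, hk], hnil, by omega⟩

end CfsgLib.IsolatedRankTwo
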